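import Cfsg.Agent.Linear.Dickson.ClassEquation

/-!
A group with a partition of torus type and an element of order four.
-/

set_option autoImplicit false

namespace Cfsg.Agent.H85.Frame

open Cfsg.Agent.Linear.Dickson

variable {G : Type*} [Group G] [Finite G] (P : CenPartition G)

/-- If no member is normal, the normaliser of a member containing an element of order four has index three. -/
theorem index_nor_eq_three (htor : ∀ x : G, x ≠ 1 → P.IsTor x) (hprop : ∀ x : G, x ≠ 1 → P.nor x ≠ ⊤) {t : G}
    (ht : orderOf t = 4) : (P.nor t).index = 3 := by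
  classical
  have ht1 : t ≠ 1 := fun e => by rw [e, orderOf_one] at ht; omega
  set g := Nat.card G with hg
  have hidx : ∀ x : G, x ≠ 1 → 2 * Nat.card (P.nor x) ≤ g := fun x hx => by
    have h1 := Subgroup.card_mul_index (P.nor x)
    have h2 : (P.nor x).index ≠ 1 := fun e => hprop x hx (Subgroup.index_eq_one.1 e)
    have h3 : (P.nor x).index ≠ 0 := Subgroup.index_ne_zero_of_finite
    rw [hg, ← h1, mul_comm]
    exact Nat.mul_le_mul_left _ (by omega)
  obtain ⟨a, ha⟩ : ∃ a, Nat.card (P.cen t) = a := ⟨_, rfl⟩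
  have ha4 : 4 ∣ a := by
    rw [← ha, ← ht]
    exact Subgroup.orderOf_dvd_natCard _ (P.mem_self t)
  have hapos : 0 < a := ha ▸ Nat.card_pos
  have ha' : (4 : ℚ) ≤ a := by exact_mod_cast Nat.le_of_dvd hapos ha4
  have hg0 : (0 : ℚ) < g := by exact_mod_cast (Nat.card_pos : 0 < g)
  -- weights
  have w1 : ∀ {x : G}, Nat.card (P.nor x) = Nat.card (P.cen x) → P.weight x = 1 - 1 / (Nat.card (P.cen x) : ℚ) :=
    fun {x} h => by
      have : (Nat.card (P.cen x) : ℚ) ≠ 0 := by exact_mod_cast Nat.card_pos.ne'
      rw [CenPartition.weight, h]; field_simp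
  have w2 : ∀ {x : G}, Nat.card (P.nor x) = 2 * Nat.card (P.cen x) →
      P.weight x = (1 - 1 / (Nat.card (P.cen x) : ℚ)) / 2 := fun {x} h => by
    have : (Nat.card (P.cen x) : ℚ) ≠ 0 := by exact_mod_cast Nat.card_pos.ne'
    rw [CenPartition.weight, h]; push_cast; field_simp
  obtain ⟨S, htS, hS⟩ := P.exists_reps {t} (by simpa using ht1)
    (fun x hx y hy _ => by rw [Finset.mem_singleton] at hx hy; rw [hx, hy])
  have htS' : t ∈ S := htS (Finset.mem_singleton_self t)
  have hsum := P.sum_weight hS
  rw [← Finset.add_sum_erase _ _ htS'] at hsum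
  set R := S.erase t with hR
  have hR1 : ∀ x ∈ R, x ≠ 1 := fun x hx => hS.ne_one x (Finset.mem_of_mem_erase hx)
  have hwt : (3 : ℚ) / 8 ≤ P.weight t := by
    have h4 : (1 : ℚ) / a ≤ 1 / 4 := one_div_le_one_div_of_le (by norm_num) ha'
    rcases htor t ht1 with h | h
    · rw [w1 h, ha]; linarith
    · rw [w2 h, ha]; linarith
  have hRc : R.card ≤ 2 := by
    by_contra h
    obtain ⟨T, hT, hTc⟩ := Finset.exists_subset_card_eq (show 3 ≤ R.card by omega)
    have h1 : (3 : ℚ) / 4 ≤ ∑ x ∈ T, P.weight x := by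
      have := Finset.card_nsmul_le_sum T P.weight (1 / 4) fun x hx => P.quarter_le_weight (hR1 x (hT hx)) (htor x (hR1 x (hT hx)))
      rw [hTc, nsmul_eq_mul] at this
      norm_num at this
      linarith
    have h2 : ∑ x ∈ T, P.weight x ≤ ∑ x ∈ R, P.weight x :=
      Finset.sum_le_sum_of_subset_of_nonneg hT fun x hx _ => (P.weight_pos (hR1 x hx)).le
    have : (0 : ℚ) < 1 / g := by positivity
    linarith
  have hpos : (0 : ℚ) < 1 / g := by positivity
  have hgt := hidx t ht1
  have hdiv : ∀ {k m : ℕ}, 0 < k → k ≤ m → (1 : ℚ) / m ≤ 1 / k := fun hk hkm =>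
    one_div_le_one_div_of_le (by exact_mod_cast hk) (by exact_mod_cast hkm)
  obtain h0 | h1 | h2 : R.card = 0 ∨ R.card = 1 ∨ R.card = 2 := by omega
  · exfalso
    rw [Finset.card_eq_zero] at h0
    rw [h0, Finset.sum_empty, add_zero] at hsum
    rcases htor t ht1 with h | h
    · rw [h, ha] at hgt
      rw [w1 h, ha] at hsum
      have e : (a : ℚ) = g := by
        have : (1 : ℚ) / a = 1 / g := by linarith
        rwa [one_div, one_div, inv_inj] at this
      have : a = g := by exact_mod_cast e
      omega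
    · rw [w2 h, ha] at hsum
      have : (0 : ℚ) < 1 / a := by positivity
      have : (1 : ℚ) / g ≤ 1 / 2 := hdiv (by norm_num) (show 2 ≤ g by omega)
      push_cast at this
      linarith
  · exfalso
    obtain ⟨x, hx⟩ := Finset.card_eq_one.1 h1
    have hx1 := hR1 x (by simp [hx])
    rw [hx, Finset.sum_singleton] at hsum
    obtain ⟨b, hb⟩ : ∃ b, Nat.card (P.cen x) = b := ⟨_, rfl⟩
    have hb2 : 2 ≤ b := hb ▸ P.two_le_card hx1
    have hgx := hidx x hx1
    have ia : (1 : ℚ) / a ≤ 1 / 4 := one_div_le_one_div_of_le (by norm_num) ha'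
    have ib : (1 : ℚ) / b ≤ 1 / 2 := by exact_mod_cast hdiv (by norm_num) hb2
    rcases htor t ht1 with h | h <;> rcases htor x hx1 with h' | h'
    · rw [w1 h, w1 h', ha, hb] at hsum; linarith
    · rw [w1 h, w2 h', ha, hb] at hsum; linarith
    · rw [h, ha] at hgt
      rw [w2 h, w1 h', ha, hb] at hsum
      rcases Nat.lt_or_ge b 3 with hb3 | hb3
      · obtain rfl : b = 2 := by omega
        push_cast at hsum
        have e : (1 : ℚ) / (2 * a) = 1 / g := by rw [one_div, mul_inv]; rw [one_div] at hsum; linarith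
        rw [one_div, one_div, inv_inj] at e
        have : 2 * a = g := by exact_mod_cast e
        omega
      · have : (1 : ℚ) / b ≤ 1 / 3 := by exact_mod_cast hdiv (by norm_num) hb3
        linarith
    · rw [h, ha] at hgt
      rw [w2 h, w2 h', ha, hb] at hsum
      have h4 : (4 : ℚ) / g ≤ 1 / a := by
        rw [div_le_div_iff₀ hg0 (by linarith)]
        have : ((2 * (2 * a) : ℕ) : ℚ) ≤ g := by exact_mod_cast hgt
        push_cast at this
        linarith
      have : (0 : ℚ) < 1 / b := by positivity
      rw [show (4 : ℚ) / g = 4 * (1 / g) by ring] at h4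
      linarith
  · obtain ⟨x, y, hxy, hR'⟩ := Finset.card_eq_two.1 h2
    rw [hR', Finset.sum_pair hxy] at hsum
    have hx1 := hR1 x (by simp [hR'])
    have hy1 := hR1 y (by simp [hR'])
    have qx := P.quarter_le_weight hx1 (htor x hx1)
    have qy := P.quarter_le_weight hy1 (htor y hy1)
    rcases htor t ht1 with h | h
    · exfalso
      have : (1 : ℚ) / a ≤ 1 / 4 := one_div_le_one_div_of_le (by norm_num) ha'
      rw [w1 h, ha] at hsum; linarith
    rcases htor x hx1 with h' | h'
    · exfalso; linarith [P.half_le_weight hx1 h']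
    rcases htor y hy1 with h'' | h''
    · exfalso; linarith [P.half_le_weight hy1 h'']
    rw [h, ha] at hgt
    rw [w2 h, w2 h', w2 h'', ha] at hsum
    obtain ⟨b, hb⟩ : ∃ b, Nat.card (P.cen x) = b := ⟨_, rfl⟩
    obtain ⟨c, hc⟩ : ∃ c, Nat.card (P.cen y) = c := ⟨_, rfl⟩
    rw [hb, hc] at hsum
    have hb2 : 2 ≤ b := hb ▸ P.two_le_card hx1
    have hc2 : 2 ≤ c := hc ▸ P.two_le_card hy1
    have key : ∀ b c : ℕ, 2 ≤ b → b ≤ c → (1 : ℚ) / a + 1 / b + 1 / c = 1 + 2 / g → a = 4 ∧ g = 24 := by
      intro b c hb hbc e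
      have ia : (1 : ℚ) / a ≤ 1 / 4 := one_div_le_one_div_of_le (by norm_num) ha'
      have h2g : (0 : ℚ) < 2 / g := by positivity
      rcases Nat.lt_or_ge b 3 with hb3 | hb3
      · obtain rfl : b = 2 := by omega
        push_cast at e
        rcases Nat.lt_or_ge c 4 with hc4 | hc4
        · obtain rfl | rfl : c = 2 ∨ c = 3 := by omega
          · exfalso
            push_cast at e
            have e' : (1 : ℚ) / a = 2 / g := by linarith
            rw [div_eq_div_iff (by linarith) hg0.ne'] at e'
            have : g = 2 * a := by exact_mod_cast (by linarith : (g : ℚ) = 2 * a)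
            omega
          · push_cast at e
            have hlt : (1 : ℚ) / 6 < 1 / a := by linarith
            have : (a : ℚ) < 6 := lt_of_one_div_lt_one_div (by linarith) hlt
            have : a < 6 := by exact_mod_cast this
            obtain ⟨m, rfl⟩ := ha4
            obtain rfl : m = 1 := by omega
            refine ⟨rfl, ?_⟩
            push_cast at e
            have e' : (1 : ℚ) / 12 = 2 / g := by linarith
            rw [div_eq_div_iff (by norm_num) hg0.ne'] at e'
            exact_mod_cast (by linarith : (g : ℚ) = 24)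
        · exfalso
          have : (1 : ℚ) / c ≤ 1 / 4 := by exact_mod_cast hdiv (by norm_num) hc4
          linarith
      · exfalso
        have : (1 : ℚ) / b ≤ 1 / 3 := by exact_mod_cast hdiv (by norm_num) hb3
        have : (1 : ℚ) / c ≤ 1 / 3 := by exact_mod_cast hdiv (by norm_num) (hb3.trans hbc)
        linarith
    have e : (1 : ℚ) / a + 1 / b + 1 / c = 1 + 2 / g := by
      rw [show (2 : ℚ) / g = 2 * (1 / g) by ring]; linarith
    obtain ⟨ha4', hg24⟩ : a = 4 ∧ g = 24 := by
      rcases Nat.le_total b c with hbc | hbc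
      · exact key b c hb2 hbc e
      · exact key c b hc2 hbc (by linarith)
    have := Subgroup.card_mul_index (P.nor t)
    rw [h, ha, ha4', ← hg, hg24] at this
    omega

end Cfsg.Agent.H85.Frame
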