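import Cfsg.Agent.H85.Frame.Rotation
import Cfsg.Agent.H85.Frame.Poles

/-!
Rotation groups of order prime to the characteristic permute the frame lines.
-/

set_option autoImplicit false

namespace Cfsg.Agent.H85.Frame

open QuadraticMap Module Cfsg.Agent.Orthogonal Cfsg.Agent.H98
open Cfsg.Agent.Linear.Dickson

variable {F V : Type*} [Field F] [Fintype F] [AddCommGroup V] [Module F V] [FiniteDimensional F V]
  {Q : QuadraticForm F V} {n : ℕ}

namespace Frm

variable {D : Frm Q n} {T : Trio n} {X : Subgroup (O Q)}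

local notation "A" => act (D := D) (T := T)

theorem Over.exists_fix_act (hX : D.Over X) {h : O Q} (hh : h ∈ hX.rot D T) : ∃ y, y ≠ 0 ∧ A h y = y := by
  classical
  have hn := hX.five
  set S : Finset (Fin n) := Finset.univ.filter fun k => ∀ i, T.ι i ≠ k with hS
  have hSc : S = (Finset.univ.map T.ι)ᶜ := by ext k; simp [hS]
  have heven : Even S.card := by
    rw [hSc, Finset.card_compl, Finset.card_map, Finset.card_univ, Fintype.card_fin, Fintype.card_fin]
    obtain ⟨m, hm⟩ := hX.odd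
    exact ⟨m - 1, by omega⟩
  obtain ⟨f, hf, hfb⟩ := hX.flip_mem S heven
  obtain ⟨v, hv0, hv⟩ := hX.exists_fix (g := h * f) (by rw [map_mul, hh.2.1, hX.det_eq hf, one_mul])
  have hout : ∀ k, (∀ i, T.ι i ≠ k) → polar Q v (D.b k) = 0 := by
    intro k hk
    have e : polar Q v (D.b k) = -polar Q v (D.b k) := by
      conv_lhs => rw [← O.polar_app (h * f), hv, Subgroup.coe_mul, mul_app, hfb k, if_pos (by simp [hS, hk]), map_neg,
        hh.1 k hk, polar_neg_right]
    rw [eq_neg_iff_add_eq_zero, ← two_mul] at e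
    exact (mul_eq_zero.1 e).resolve_left D.two
  have hvy := D.emb_crd T hout
  refine ⟨D.crd T v, fun e => hv0 (by rw [← hvy, e, map_zero]), ?_⟩
  have hfv : (f : V ≃ₗ[F] V) v = v := by
    rw [← hvy, emb_apply, map_sum]
    refine Finset.sum_congr rfl fun i _ => ?_
    rw [map_smul, hfb, if_neg (by simp [hS])]
  rw [Subgroup.coe_mul, mul_app, hfv] at hv
  rw [act, hvy, hv]

theorem Over.act_pow (hX : D.Over X) {h : O Q} (hh : h ∈ hX.rot D T) {y : Fin 3 → F} (hy : A h y = y) :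
    ∀ m : ℕ, A (h ^ m) y = y
  | 0 => by rw [pow_zero, act_one]
  | m + 1 => by rw [pow_succ, hX.act_mul hh, hy, Over.act_pow hX hh hy m]

/-- A rotation of invertible order has a non-singular axis. -/
theorem Over.exists_axis (hX : D.Over X) {h : O Q} (hh : h ∈ hX.rot D T) (h1 : h ≠ 1)
    (hm : (orderOf h : F) ≠ 0) :
    ∃ y, y ⬝ᵥ y ≠ 0 ∧ A h y = y ∧ ∀ z, A h z = z → ∃ c : F, z = c • y := by
  set m := orderOf h
  set P : (Fin 3 → F) → (Fin 3 → F) := fun x => ∑ k ∈ Finset.range m, A (h ^ k) x with hP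
  have hsum : ∀ (g : O Q) (s : Finset ℕ) (φ : ℕ → Fin 3 → F), A g (∑ k ∈ s, φ k) = ∑ k ∈ s, A g (φ k) := by
    intro g s φ
    simp [act, map_sum]
  have hPfix : ∀ x, A h (P x) = P x := fun x => by
    have hsucc : ∀ k, A h (A (h ^ k) x) = A (h ^ (k + 1)) x := fun k => by
      rw [pow_succ', hX.act_mul ((hX.rot D T).pow_mem hh k)]
    rw [hP, hsum, Finset.sum_congr rfl fun k _ => hsucc k]
    have e := Finset.sum_range_succ' (fun k => A (h ^ k) x) m
    rw [Finset.sum_range_succ, pow_orderOf_eq_one, pow_zero] at e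
    exact (add_right_cancel e).symm
  -- the fixed space is non-degenerate
  have hnd : ∀ y, A h y = y → y ≠ 0 → ∃ z, A h z = z ∧ y ⬝ᵥ z ≠ 0 := by
    intro y hy hy0
    by_contra hc
    push Not at hc
    refine hy0 (funext fun i => ?_)
    have e := hc _ (hPfix (Pi.single i 1))
    rw [hP, dotProduct_sum, Finset.sum_congr rfl fun k _ => show y ⬝ᵥ A (h ^ k) (Pi.single i 1) = y i by
      conv_lhs => rw [← hX.act_pow hh hy k]
      rw [hX.act_dot ((hX.rot D T).pow_mem hh k), dotProduct_single, mul_one],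
      Finset.sum_const, Finset.card_range, nsmul_eq_mul] at e
    exact (mul_eq_zero.1 e).resolve_left hm
  -- a non-singular fixed vector orthogonal to a given one
  have hpick : ∀ y z, A h y = y → A h z = z → y ⬝ᵥ z ≠ 0 → ∀ w : Fin 3 → F, w ⬝ᵥ y = 0 → w ⬝ᵥ z = 0 →
      ∃ u, A h u = u ∧ u ⬝ᵥ u ≠ 0 ∧ w ⬝ᵥ u = 0 := by
    intro y z hy hz hyz w hwy hwz
    by_cases h1 : y ⬝ᵥ y = 0
    swap
    · exact ⟨y, hy, h1, hwy⟩
    by_cases h2 : z ⬝ᵥ z = 0
    swap
    · exact ⟨z, hz, h2, hwz⟩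
    refine ⟨y + z, by rw [act_add, hy, hz], ?_, by rw [dotProduct_add, hwy, hwz, add_zero]⟩
    simp only [add_dotProduct, dotProduct_add, h1, h2, dotProduct_comm z y, zero_add, add_zero, ← two_mul]
    exact mul_ne_zero D.two hyz
  obtain ⟨y₀, hy₀, hy₀'⟩ := hX.exists_fix_act hh
  obtain ⟨z₀, hz₀, hyz⟩ := hnd y₀ hy₀' hy₀
  obtain ⟨y, hy, hyy, -⟩ := hpick y₀ z₀ hy₀' hz₀ hyz 0 (zero_dotProduct _) (zero_dotProduct _)
  refine ⟨y, hyy, hy, fun z hz => ?_⟩
  set z' := z - ((y ⬝ᵥ z) / (y ⬝ᵥ y)) • y with hz'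
  by_cases h0 : z' = 0
  · exact ⟨_, sub_eq_zero.1 h0⟩
  exfalso
  have hzf : A h z' = z' := by rw [hz', sub_eq_add_neg, ← neg_smul, act_add, act_smul, hy, hz]
  have hyz' : y ⬝ᵥ z' = 0 := by
    rw [hz', dotProduct_sub, dotProduct_smul, smul_eq_mul, div_mul_cancel₀ _ hyy, sub_self]
  obtain ⟨t, ht, hzt⟩ := hnd z' hzf h0
  set t' := t - ((y ⬝ᵥ t) / (y ⬝ᵥ y)) • y with ht'
  have htf : A h t' = t' := by rw [ht', sub_eq_add_neg, ← neg_smul, act_add, act_smul, hy, ht]
  have hyt' : y ⬝ᵥ t' = 0 := by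
    rw [ht', dotProduct_sub, dotProduct_smul, smul_eq_mul, div_mul_cancel₀ _ hyy, sub_self]
  obtain ⟨u, hu, huu, hyu⟩ := hpick z' t' hzf htf (by
    rw [ht', dotProduct_sub, dotProduct_smul, dotProduct_comm z' y, hyz', smul_zero, sub_zero]; exact hzt) y hyz' hyt'
  exact h1 (hX.rot_eq_one hh hy hu (by rw [hyu, mul_zero, sub_zero]; exact mul_ne_zero hyy huu))

/-- The partition of a group of rotations by axes. -/
noncomputable def Over.axisPart (hX : D.Over X)
    (hax : ∀ x : hX.rot D T, x ≠ 1 → ∃ y, y ⬝ᵥ y ≠ 0 ∧ A (x : O Q) y = y ∧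
      ∀ z, A (x : O Q) z = z → ∃ c : F, z = c • y) : CenPartition (hX.rot D T) where
  cen x :=
    { carrier := {g | ∀ v, A (x : O Q) v = v → A (g : O Q) v = v}
      one_mem' := fun v _ => act_one v
      mul_mem' := fun {g h} hg hh v hv => by rw [Subgroup.coe_mul, hX.act_mul h.2, hh v hv, hg v hv]
      inv_mem' := fun {g} hg v hv => by
        conv_lhs => rw [← hg v hv, ← hX.act_mul g.2, ← Subgroup.coe_mul, inv_mul_cancel, OneMemClass.coe_one, act_one] }
  mem_self x := fun _ hv => hv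
  eq_of_mem {x y} hx hy h := by
    obtain ⟨a, ha, hxa, hxu⟩ := hax x hx
    obtain ⟨b, hb, hyb, hyu⟩ := hax y hy
    obtain ⟨c, hc⟩ := hyu a (h a hxa)
    have hfix : ∀ v, A (y : O Q) v = v → A (x : O Q) v = v := fun v hv => by
      obtain ⟨d, rfl⟩ := hyu v hv
      have hc0 : c ≠ 0 := fun e => ha (by rw [hc, e, zero_smul, zero_dotProduct])
      have : d • b = (d / c) • a := by rw [hc, smul_smul, div_mul_cancel₀ _ hc0]
      rw [this, act_smul, hxa]
    exact Subgroup.ext fun g => ⟨fun hg v hv => hg v (h v hv), fun hg v hv => hg v (hfix v hv)⟩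
  mem_conj g x y := by
    have hconj : ∀ (w : hX.rot D T) v,
        A ((g * w * g⁻¹ : hX.rot D T) : O Q) v = A (g : O Q) (A (w : O Q) (A ((g⁻¹ : hX.rot D T) : O Q) v)) := by
      intro w v
      rw [Subgroup.coe_mul, hX.act_mul (g⁻¹).2, Subgroup.coe_mul, hX.act_mul w.2]
    have hinv : ∀ v, A (g : O Q) (A ((g⁻¹ : hX.rot D T) : O Q) v) = v := fun v => by
      rw [← hX.act_mul (g⁻¹).2, ← Subgroup.coe_mul, mul_inv_cancel, OneMemClass.coe_one, act_one]
    have hinv' : ∀ v, A ((g⁻¹ : hX.rot D T) : O Q) (A (g : O Q) v) = v := fun v => by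
      rw [← hX.act_mul g.2, ← Subgroup.coe_mul, inv_mul_cancel, OneMemClass.coe_one, act_one]
    constructor
    · intro h v hv
      have := h (A (g : O Q) v) (by rw [hconj, hinv', hv])
      rw [hconj, hinv'] at this
      rw [← hinv' (A (y : O Q) v), this, hinv']
    · intro h v hv
      rw [hconj] at hv ⊢
      have : A (x : O Q) (A ((g⁻¹ : hX.rot D T) : O Q) v) = A ((g⁻¹ : hX.rot D T) : O Q) v := by
        conv_rhs => rw [← hv, hinv']
      rw [h _ this, hinv]

theorem Over.axisPart_facts (hX : D.Over X)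
    (hax : ∀ x : hX.rot D T, x ≠ 1 → ∃ y, y ⬝ᵥ y ≠ 0 ∧ A (x : O Q) y = y ∧
      ∀ z, A (x : O Q) z = z → ∃ c : F, z = c • y) {x : hX.rot D T} (hx : x ≠ 1) :
    (hX.axisPart hax).IsTor x ∧ ∀ y, A (x : O Q) y = y → y ⬝ᵥ y ≠ 0 →
      ∀ g ∈ (hX.axisPart hax).nor x, A (g : O Q) y = y ∨ A (g : O Q) y = -y := by
  classical
  obtain ⟨a, ha, hxa, hxu⟩ := hax x hx
  set P := hX.axisPart hax
  have hcen : ∀ g : hX.rot D T, A (g : O Q) a = a → g ∈ P.cen x := fun g hg v hv => by
    obtain ⟨c, rfl⟩ := hxu v hv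
    rw [act_smul, hg]
  have hline : ∀ g ∈ P.nor x, A (g : O Q) a = a ∨ A (g : O Q) a = -a := by
    intro g hg
    have hmem : g⁻¹ * x * g ∈ P.cen x := by
      have := (Subgroup.mem_normalizer_iff.1 ((P.nor x).inv_mem hg) x).1 (P.mem_self x)
      rwa [inv_inv] at this
    have e := hmem a hxa
    rw [Subgroup.coe_mul, hX.act_mul g.2, Subgroup.coe_mul, hX.act_mul x.2] at e
    have e' : A (x : O Q) (A (g : O Q) a) = A (g : O Q) a := by
      conv_rhs => rw [← e, ← hX.act_mul (g⁻¹).2, ← Subgroup.coe_mul, mul_inv_cancel, OneMemClass.coe_one, act_one]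
    obtain ⟨c, hc⟩ := hxu _ e'
    have h2 := hX.act_dot g.2 a a
    rw [hc, smul_dotProduct, dotProduct_smul, smul_eq_mul, smul_eq_mul, ← mul_assoc] at h2
    rcases mul_self_eq_one_iff.1 ((mul_eq_right₀ ha).1 h2) with h | h <;> rw [hc, h]
    · exact Or.inl (one_smul F a)
    · exact Or.inr (neg_one_smul F a)
  refine ⟨?_, fun y hy _ g hg => ?_⟩
  · by_cases h : ∀ g ∈ P.nor x, g ∈ P.cen x
    · exact Or.inl (by rw [le_antisymm h (P.le_nor x)])
    · right
      push Not at h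
      obtain ⟨g, hg, hgc⟩ := h
      have hidx : ((P.cen x).subgroupOf (P.nor x)).index = 2 := by
        rw [Subgroup.index_eq_two_iff]
        refine ⟨⟨g, hg⟩, fun b => ?_⟩
        simp only [Subgroup.mem_subgroupOf, Subgroup.coe_mul]
        by_cases hb : (b : hX.rot D T) ∈ P.cen x
        · refine Or.inr ⟨hb, fun hbg => hgc ?_⟩
          simpa using (P.cen x).mul_mem ((P.cen x).inv_mem hb) hbg
        · refine Or.inl ⟨hcen _ ?_, hb⟩
          have hga := (hline g hg).resolve_left fun e => hgc (hcen g e)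
          have hba := (hline b b.2).resolve_left fun e => hb (hcen b e)
          rw [Subgroup.coe_mul, hX.act_mul g.2, hga, ← neg_one_smul F, act_smul, hba, neg_one_smul, neg_neg]
      show Nat.card (P.nor x) = 2 * Nat.card (P.cen x)
      rw [← Subgroup.card_mul_index ((P.cen x).subgroupOf (P.nor x)), hidx,
        Nat.card_congr (Subgroup.subgroupOfEquivOfLe (P.le_nor x)).toEquiv, mul_comm]
  · obtain ⟨c, rfl⟩ := hxu y hy
    rcases hline g hg with h | h <;> rw [act_smul, h]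
    · exact Or.inl rfl
    · exact Or.inr (smul_neg c a)

end Frm

end Cfsg.Agent.H85.Frame
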