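import Cfsg.Agent.H98.SubfieldOrth.Basic
import Cfsg.Agent.H98.OrthMax.NondegAux
import Cfsg.Agent.Orthogonal.AutOutOdd

/-!
The orbit of the vectors of an orthogonal frame under a group containing the stabiliser of the frame in Ω.
-/

set_option autoImplicit false

namespace Cfsg.Agent.H85.Frame

open QuadraticMap Module Cfsg.Agent.Orthogonal Cfsg.Agent.H98
open Cfsg.Agent.H98.SubfieldOrth (SIn sIn_zero)

variable {F V : Type*} [Field F] [Fintype F] [AddCommGroup V] [Module F V] [FiniteDimensional F V]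
  {Q : QuadraticForm F V} {n : ℕ}

/-- An orthogonal basis all of whose vectors have the same norm. -/
structure Frm (Q : QuadraticForm F V) (n : ℕ) where
  b : Module.Basis (Fin n) F V
  a : F
  ha : a ≠ 0
  two : (2 : F) ≠ 0
  val : ∀ i, Q (b i) = a
  orth : ∀ i j, i ≠ j → polar Q (b i) (b j) = 0

variable (D : Frm Q n) {X : Subgroup (O Q)}

namespace Frm

/-- The vector with the given coordinates. -/
noncomputable def vec : (Fin n → F) ≃ₗ[F] V := D.b.equivFun.symm

/-- The coordinate vector of a frame vector. -/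
def unit (_ : Frm Q n) (i : Fin n) : Fin n → F := Pi.single i 1

theorem vec_eq (f : Fin n → F) : D.vec f = ∑ i, f i • D.b i := D.b.equivFun_symm_apply f

theorem vec_unit (i : Fin n) : D.vec (D.unit i) = D.b i := by
  rw [vec_eq, Finset.sum_eq_single i (fun j _ hj => by simp [unit, hj]) (by simp)]
  simp [unit]

theorem polar_b (i j : Fin n) : polar Q (D.b i) (D.b j) = if i = j then 2 * D.a else 0 := by
  by_cases h : i = j
  · subst h; rw [if_pos rfl, polar_self', D.val]
  · rw [if_neg h, D.orth i j h]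

theorem polar_vec_b (f : Fin n → F) (j : Fin n) : polar Q (D.vec f) (D.b j) = 2 * D.a * f j := by
  rw [vec_eq, ← polarBilin_apply', map_sum, LinearMap.sum_apply, Finset.sum_eq_single j]
  · rw [map_smul, LinearMap.smul_apply, polarBilin_apply', polar_b, if_pos rfl, smul_eq_mul]; ring
  · intro i _ hi
    rw [map_smul, LinearMap.smul_apply, polarBilin_apply', polar_b, if_neg hi, smul_zero]
  · simp

theorem polar_vec (f g : Fin n → F) : polar Q (D.vec f) (D.vec g) = 2 * D.a * (f ⬝ᵥ g) := by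
  conv_lhs => rw [D.vec_eq g, ← polarBilin_apply', map_sum]
  simp only [map_smul, polarBilin_apply', polar_vec_b, smul_eq_mul, dotProduct, Finset.mul_sum]
  exact Finset.sum_congr rfl fun i _ => by ring

theorem Q_vec (f : Fin n → F) : Q (D.vec f) = D.a * (f ⬝ᵥ f) := by
  refine mul_left_cancel₀ D.two ?_
  rw [← polar_self', polar_vec]; ring

theorem rO_vec {f : Fin n → F} (hf : f ⬝ᵥ f = 1) (g : Fin n → F) :
    (rO Q (D.vec f) : V ≃ₗ[F] V) (D.vec g) = D.vec (g - (2 * (f ⬝ᵥ g)) • f) := by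
  rw [rO_app, Q_vec, polar_vec, hf, map_sub, map_smul]
  congr 2
  field_simp [D.ha]

theorem rO_b (i : Fin n) (g : Fin n → F) :
    (rO Q (D.b i) : V ≃ₗ[F] V) (D.vec g) = D.vec (Function.update g i (-g i)) := by
  rw [← D.vec_unit, D.rO_vec (by simp [unit])]
  congr 1
  funext k
  rcases eq_or_ne k i with rfl | hk
  · simp [unit]; ring
  · simp [unit, hk, Function.update_of_ne hk]

theorem swp_app {i j : Fin n} (hij : i ≠ j) (g : Fin n → F) :
    (rO Q (D.b i - D.b j) : V ≃ₗ[F] V) (D.vec g) = D.vec (g ∘ Equiv.swap i j) := by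
  have hQ : Q (D.b i - D.b j) = 2 * D.a := by
    rw [qmap_sub, D.val, D.val, D.orth i j hij]; ring
  rw [rO_app, hQ, polar_sub_left, polar_comm (⇑Q) (D.b i) (D.vec g), polar_comm (⇑Q) (D.b j) (D.vec g),
    polar_vec_b, polar_vec_b, ← D.vec_unit i, ← D.vec_unit j, ← map_sub, ← map_smul, ← map_sub]
  congr 1
  funext k
  have h2a : (2 * D.a : F) ≠ 0 := mul_ne_zero D.two D.ha
  rcases eq_or_ne k i with rfl | hki
  · simp [unit, hij]; field_simp [D.two, D.ha]; ring
  rcases eq_or_ne k j with rfl | hkj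
  · simp [unit, hki]; field_simp [D.two, D.ha]; ring
  · simp [unit, hki, hkj, Equiv.swap_apply_of_ne_of_ne hki hkj]

/-- An isometry permuting the lines of the frame. -/
def Mon (g : O Q) : Prop := ∀ i, ∃ j, (g : V ≃ₗ[F] V) (D.b i) = D.b j ∨ (g : V ≃ₗ[F] V) (D.b i) = -D.b j

theorem mon_rO (i : Fin n) : D.Mon (rO Q (D.b i)) := fun k => by
  refine ⟨k, ?_⟩
  rcases eq_or_ne i k with rfl | h
  · exact Or.inr (rO_self (by rw [D.val]; exact D.ha))
  · exact Or.inl (rO_fix (D.orth i k h))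

theorem mon_swp {i j : Fin n} (hij : i ≠ j) : D.Mon (rO Q (D.b i - D.b j)) := fun k => by
  refine ⟨Equiv.swap i j k, Or.inl ?_⟩
  rw [← D.vec_unit k, D.swp_app hij, ← D.vec_unit (Equiv.swap i j k)]
  congr 1
  funext l
  simp only [unit, Function.comp_apply, Pi.single_apply, Equiv.swap_apply_eq_iff]

theorem mon_mul {g h : O Q} (hg : D.Mon g) (hh : D.Mon h) : D.Mon (g * h) := fun i => by
  obtain ⟨j, hj⟩ := hh i
  obtain ⟨k, hk⟩ := hg j
  refine ⟨k, ?_⟩
  rw [Subgroup.coe_mul, mul_app]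
  rcases hj with hj | hj <;> rcases hk with hk | hk <;> simp [hj, hk]

/-- Membership of the frame stabiliser in Ω. -/
structure Over (X : Subgroup (O Q)) : Prop where
  hQ : Nondeg Q
  five : 5 ≤ n
  odd : Odd n
  prime : (Fintype.card F).Prime
  mon : ∀ s ∈ commutator (O Q), D.Mon s → s ∈ X
  le : X ≤ commutator (O Q)

/-- The coordinates of the images of frame vectors and their negatives. -/
def Orb (X : Subgroup (O Q)) (f : Fin n → F) : Prop :=
  ∃ g ∈ X, ∃ i, D.vec f = (g : V ≃ₗ[F] V) (D.b i) ∨ D.vec f = -(g : V ≃ₗ[F] V) (D.b i)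

variable {D}

theorem orb_unit (i : Fin n) : D.Orb X (D.unit i) :=
  ⟨1, X.one_mem, i, Or.inl (by rw [D.vec_unit]; rfl)⟩

theorem Orb.neg {f : Fin n → F} (h : D.Orb X f) : D.Orb X (-f) := by
  obtain ⟨g, hg, i, h⟩ := h
  exact ⟨g, hg, i, h.symm.imp (fun e => by rw [map_neg, e, neg_neg]) (fun e => by rw [map_neg, e])⟩

theorem Orb.map {f : Fin n → F} (h : D.Orb X f) {g : O Q} (hg : g ∈ X) {f' : Fin n → F}
    (e : (g : V ≃ₗ[F] V) (D.vec f) = D.vec f') : D.Orb X f' := by
  obtain ⟨k, hk, i, h⟩ := h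
  exact ⟨g * k, X.mul_mem hg hk, i, h.imp (fun h => by rw [← e, h, Subgroup.coe_mul, mul_app])
    (fun h => by rw [← e, h, map_neg, Subgroup.coe_mul, mul_app])⟩

theorem Orb.norm {f : Fin n → F} (h : D.Orb X f) : f ⬝ᵥ f = 1 := by
  obtain ⟨g, -, i, h⟩ := h
  refine mul_left_cancel₀ D.ha ?_
  rw [← D.Q_vec, mul_one]
  rcases h with h | h <;> rw [h] <;> simp [O.map_app, D.val]

theorem Over.pair_mem (hX : D.Over X) (i j : Fin n) : rO Q (D.b i) * rO Q (D.b j) ∈ X :=
  hX.mon _ (OrthMax.rO_mul_mem hX.hQ (by rw [D.val]; exact D.ha) (by rw [D.val, D.val]))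
    (D.mon_mul (D.mon_rO i) (D.mon_rO j))

theorem Over.swp_mem (hX : D.Over X) {i j k l : Fin n} (hij : i ≠ j) (hkl : k ≠ l) :
    rO Q (D.b i - D.b j) * rO Q (D.b k - D.b l) ∈ X := by
  refine hX.mon _ (OrthMax.rO_mul_mem hX.hQ ?_ ?_) (D.mon_mul (D.mon_swp hij) (D.mon_swp hkl))
  · rw [qmap_sub, D.val, D.val, D.orth i j hij, sub_zero, ← two_mul]; exact mul_ne_zero D.two D.ha
  · rw [qmap_sub, qmap_sub, D.val, D.val, D.val, D.val, D.orth i j hij, D.orth k l hkl]

theorem Over.flip_mem (hX : D.Over X) : ∀ s : Finset (Fin n), Even s.card →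
    ∃ g ∈ X, ∀ i, (g : V ≃ₗ[F] V) (D.b i) = if i ∈ s then -D.b i else D.b i := by
  intro s
  induction s using Finset.strongInduction with
  | H s ih =>
    intro hs
    rcases s.eq_empty_or_nonempty with rfl | ⟨i, hi⟩
    · exact ⟨1, X.one_mem, fun i => by simp⟩
    obtain ⟨j, hj⟩ : (s.erase i).Nonempty := by
      rw [← Finset.card_pos, Finset.card_erase_of_mem hi]
      obtain ⟨m, hm⟩ := hs
      have := Finset.card_pos.2 ⟨i, hi⟩
      omega
    have hji := Finset.ne_of_mem_erase hj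
    obtain ⟨g, hg, hgb⟩ := ih ((s.erase i).erase j)
      (lt_of_lt_of_le (Finset.erase_ssubset hj) (Finset.erase_subset _ _))
      (by
        rw [Finset.card_erase_of_mem hj, Finset.card_erase_of_mem hi]
        obtain ⟨m, hm⟩ := hs
        exact ⟨m - 1, by omega⟩)
    refine ⟨rO Q (D.b i) * rO Q (D.b j) * g, X.mul_mem (hX.pair_mem i j) hg, fun k => ?_⟩
    rw [Subgroup.coe_mul, Subgroup.coe_mul, mul_app, mul_app, hgb k]
    have hQ0 : ∀ k, Q (D.b k) ≠ 0 := fun k => by rw [D.val]; exact D.ha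
    rcases eq_or_ne k i with rfl | hki
    · simp [hi, rO_fix (D.orth j k hji), rO_self (hQ0 k)]
    rcases eq_or_ne k j with rfl | hkj
    · simp [Finset.mem_of_mem_erase hj, rO_self (hQ0 k), map_neg, rO_fix (D.orth i k (Ne.symm hji))]
    · by_cases hk : k ∈ s <;>
        simp [hk, hki, hkj, rO_fix (D.orth i k (Ne.symm hki)), rO_fix (D.orth j k (Ne.symm hkj)), map_neg]

theorem Over.negrO_mem (hX : D.Over X) (i : Fin n) : negO Q * rO Q (D.b i) ∈ X := by
  obtain ⟨g, hg, hgb⟩ := hX.flip_mem (Finset.univ.erase i) (by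
    rw [Finset.card_erase_of_mem (Finset.mem_univ i), Finset.card_univ, Fintype.card_fin]
    obtain ⟨m, hm⟩ := hX.odd
    exact ⟨m, by omega⟩)
  convert hg using 1
  refine Subtype.ext (LinearEquiv.toLinearMap_injective (D.b.ext fun k => ?_))
  rw [LinearEquiv.coe_coe, LinearEquiv.coe_coe, hgb k, Subgroup.coe_mul, mul_app, negO_app]
  rcases eq_or_ne i k with rfl | h
  · simp [rO_self (show Q (D.b i) ≠ 0 by rw [D.val]; exact D.ha)]
  · simp [rO_fix (D.orth i k h), Ne.symm h]

theorem negO_comm (g : O Q) : negO Q * g = g * negO Q :=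
  O.ext_app fun x => by simp [negO_app]

theorem negO_sq : negO Q * negO Q = 1 := O.ext_app fun x => by simp [negO_app]

theorem Over.negrO_orb (hX : D.Over X) {f : Fin n → F} (hf : D.Orb X f) : negO Q * rO Q (D.vec f) ∈ X := by
  obtain ⟨g, hg, i, h⟩ := hf
  have e : rO Q (D.vec f) = g * rO Q (D.b i) * g⁻¹ := by
    rw [conj_rO]
    rcases h with h | h
    · rw [h]
    · rw [h, ← neg_one_smul F, rO_smul (neg_ne_zero.2 one_ne_zero)]
  have := X.mul_mem (X.mul_mem hg (hX.negrO_mem i)) (X.inv_mem hg)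
  rwa [← mul_assoc g, ← negO_comm g, mul_assoc (negO Q) g, mul_assoc (negO Q) (g * _), ← e] at this

theorem Over.rO_rO_mem (hX : D.Over X) {f g : Fin n → F} (hf : D.Orb X f) (hg : D.Orb X g) :
    rO Q (D.vec f) * rO Q (D.vec g) ∈ X := by
  have := X.mul_mem (hX.negrO_orb hf) (hX.negrO_orb hg)
  rwa [negO_comm (rO Q (D.vec f)), mul_assoc, ← mul_assoc (negO Q) (negO Q), negO_sq, one_mul] at this

theorem Orb.refl (hX : D.Over X) {f g : Fin n → F} (hf : D.Orb X f) (hg : D.Orb X g) :
    D.Orb X (g - (2 * (f ⬝ᵥ g)) • f) := by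
  have := (hg.map (hX.negrO_orb hf) (f' := -(g - (2 * (f ⬝ᵥ g)) • f)) (by
    rw [Subgroup.coe_mul, mul_app, D.rO_vec hf.norm, negO_app, map_neg])).neg
  rwa [neg_neg] at this

theorem Orb.flip (hX : D.Over X) {f : Fin n → F} (hf : D.Orb X f) (i : Fin n) :
    D.Orb X (Function.update f i (-f i)) := by
  have := (hf.map (hX.negrO_mem i) (f' := -Function.update f i (-f i)) (by
    rw [Subgroup.coe_mul, mul_app, D.rO_b, negO_app, map_neg])).neg
  rwa [neg_neg] at this

theorem Orb.sign (hX : D.Over X) {f : Fin n → F} (hf : D.Orb X f) (s : Finset (Fin n)) :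
    D.Orb X (fun k => if k ∈ s then -f k else f k) := by
  induction s using Finset.induction_on with
  | empty => simpa using hf
  | @insert i s hi ih =>
    convert ih.flip hX i using 1
    funext k
    rcases eq_or_ne k i with rfl | hk
    · simp [hi]
    · simp [hk]

theorem Orb.swap (hX : D.Over X) {f : Fin n → F} (hf : D.Orb X f) {i j k l : Fin n} (hij : i ≠ j)
    (hkl : k ≠ l) : D.Orb X (f ∘ Equiv.swap k l ∘ Equiv.swap i j) :=
  hf.map (hX.swp_mem hij hkl) (by rw [Subgroup.coe_mul, mul_app, D.swp_app hkl, D.swp_app hij]; rfl)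

theorem Over.exists_nat (hX : D.Over X) (c : F) : ∃ m : ℕ, (m : F) = c := by
  classical
  have hcard : Nat.card F = Fintype.card F := Nat.card_eq_fintype_card
  have : Fact (Nat.card F).Prime := ⟨hcard ▸ hX.prime⟩
  rcases (AddSubgroup.zmultiples (1 : F)).eq_bot_or_eq_top_of_prime_card with h | h
  · exact absurd (AddSubgroup.zmultiples_eq_bot.1 h) one_ne_zero
  · have hc : c ∈ AddSubgroup.zmultiples (1 : F) := h ▸ AddSubgroup.mem_top c
    rw [← mem_multiples_iff_mem_zmultiples] at hc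
    obtain ⟨m, hm⟩ := hc
    exact ⟨m, by simpa using hm⟩

/-- Root elements with a given centre are closed under scalars. -/
theorem Over.sIn_smul (hX : D.Over X) {u w : V} (h : SIn X u w) (c : F) : SIn X u (c • w) := by
  obtain ⟨m, rfl⟩ := hX.exists_nat c
  induction m with
  | zero => rw [Nat.cast_zero, zero_smul]; exact sIn_zero h.singular
  | succ m ih => rw [Nat.cast_succ, add_smul, one_smul]; exact ih.add h

/-- Two tangent frame images give a root element. -/
theorem Over.sIn_tangent (hX : D.Over X) {f w : Fin n → F} {δ : F} (hδ : δ ≠ 0) (hf : D.Orb X f)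
    (hfw : D.Orb X (f + δ • w)) (hw : f ⬝ᵥ w = 0) : SIn X (D.vec w) (D.vec f) := by
  have h1 := hf.norm
  have h3 := hfw.norm
  simp only [add_dotProduct, dotProduct_add, smul_dotProduct, dotProduct_smul, smul_eq_mul,
    dotProduct_comm w f, hw, h1, mul_zero, add_zero, zero_add] at h3
  have hww : w ⬝ᵥ w = 0 := by
    have : δ * δ * (w ⬝ᵥ w) = 0 := by linear_combination h3
    exact (mul_eq_zero.1 this).resolve_left (mul_ne_zero hδ hδ)
  have hQw : Q (D.vec w) = 0 := by rw [D.Q_vec, hww, mul_zero]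
  have hwf : polar Q (D.vec w) ((-(δ / D.a)) • D.vec f) = 0 := by
    rw [polar_smul_right', D.polar_vec, dotProduct_comm, hw]; ring
  have hs : SIn X (D.vec w) ((-(δ / D.a)) • D.vec f) := by
    refine ⟨hQw, hwf, ?_⟩
    convert hX.rO_rO_mem hf hfw using 1
    refine O.ext_app fun x => ?_
    rw [Subgroup.coe_mul, mul_app, sie_app, rO_app, rO_app, polar_smul_left', qmap_smul, D.Q_vec f, h1,
      D.Q_vec (f + δ • w), hfw.norm, polar_sub_right, polar_smul_right', map_add, map_smul, polar_add_left,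
      polar_smul_left', polar_add_right, polar_smul_right', polar_self', D.Q_vec, h1, D.polar_vec f w, hw]
    match_scalars <;> field_simp [D.ha] <;> ring
  have := hX.sIn_smul hs (-(D.a / δ))
  rwa [smul_smul, show -(D.a / δ) * -(δ / D.a) = 1 by field_simp [D.ha, hδ], one_smul] at this

end Frm

end Cfsg.Agent.H85.Frame
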