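import Cfsg.Agent.H85.Frame.Axis

/-!
A frame image of support three yields a rotation of characteristic order.
-/

set_option autoImplicit false

namespace Cfsg.Agent.H85.Frame

open QuadraticMap Module Cfsg.Agent.Orthogonal Cfsg.Agent.H98

variable {F V : Type*} [Field F] [Fintype F] [AddCommGroup V] [Module F V] [FiniteDimensional F V]
  {Q : QuadraticForm F V} {n : ℕ}

namespace Frm

variable (D : Frm Q n) (T : Trio n)

/-- The coordinate vector of a vector of the three-space. -/
noncomputable def lift3 (y : Fin 3 → F) : Fin n → F := D.vec.symm (D.emb T y)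

theorem vec_lift3 (y : Fin 3 → F) : D.vec (D.lift3 T y) = D.emb T y := D.vec.apply_symm_apply _

theorem lift3_app (y : Fin 3 → F) (i : Fin 3) : D.lift3 T y (T.ι i) = y i := by
  refine mul_left_cancel₀ (mul_ne_zero D.two D.ha) ?_
  rw [← D.polar_vec_b, vec_lift3, polar_emb_b]

theorem lift3_out (y : Fin 3 → F) {k : Fin n} (hk : ∀ i, T.ι i ≠ k) : D.lift3 T y k = 0 := by
  refine mul_left_cancel₀ (mul_ne_zero D.two D.ha) ?_
  rw [← D.polar_vec_b, vec_lift3, D.polar_emb_out T y hk, mul_zero]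

theorem inner_rO (v : Fin 3 → F) : D.Inner T (rO Q (D.emb T v)) :=
  fun _ hk => rO_fix (D.polar_emb_out T v hk)

theorem act_rO (v y : Fin 3 → F) :
    act (D := D) (T := T) (rO Q (D.emb T v)) y = y - ((v ⬝ᵥ v)⁻¹ * (2 * (v ⬝ᵥ y))) • v := by
  rw [act, rO_app, map_sub, map_smul, D.crd_emb, D.crd_emb, D.Q_emb, D.polar_emb]
  congr 2
  rw [mul_inv, mul_comm D.a⁻¹, mul_assoc, show D.a⁻¹ * (2 * D.a * (v ⬝ᵥ y)) = 2 * (v ⬝ᵥ y) by
    field_simp [D.ha]]

theorem Outer.of_rO {k : Fin n} (hk : k = T.l₁ ∨ k = T.l₂) : D.Outer T (rO Q (D.b k)) :=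
  ⟨D.mon_rO k, fun m h1 h2 => rO_fix (D.orth k m (by rcases hk with rfl | rfl <;> [exact h1.symm; exact h2.symm]))⟩

theorem Outer.of_swp : D.Outer T (rO Q (D.b T.l₁ - D.b T.l₂)) :=
  ⟨D.mon_swp T.ne, fun m h1 h2 => rO_fix (by
    rw [polar_sub_left, D.orth _ m h1.symm, D.orth _ m h2.symm, sub_zero])⟩

variable {D T} {X : Subgroup (O Q)}

local notation "A" => act (D := D) (T := T)
local notation "e₀" => (Pi.single 0 1 : Fin 3 → F)
local notation "e₁" => (Pi.single 1 1 : Fin 3 → F)
local notation "e₂" => (Pi.single 2 1 : Fin 3 → F)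

theorem Over.act_orb (hX : D.Over X) {h : O Q} (hh : h ∈ hX.rot D T) {y : Fin 3 → F}
    (hy : D.Orb X (D.lift3 T y)) : D.Orb X (D.lift3 T (A h y)) := by
  obtain ⟨s, hs, hhs⟩ := hh.2.2
  refine hy.map hhs ?_
  rw [vec_lift3, vec_lift3, hX.emb_act hh, Subgroup.coe_mul, mul_app, hs.fix_emb]

theorem Over.pair_rot (hX : D.Over X) {u v : Fin 3 → F} (hu : u ⬝ᵥ u ≠ 0) (hv : v ⬝ᵥ v ≠ 0)
    {s : O Q} (hs : D.Outer T s) (h : rO Q (D.emb T u) * rO Q (D.emb T v) * s ∈ X) :
    rO Q (D.emb T u) * rO Q (D.emb T v) ∈ hX.rot D T := by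
  refine ⟨(D.inner_rO T u).mul D T (D.inner_rO T v), ?_, s, hs, h⟩
  rw [map_mul, detSign_rO hX.hQ D.two, detSign_rO hX.hQ D.two]
  · exact Int.units_mul_self _
  all_goals rw [D.Q_emb]
  exacts [mul_ne_zero D.ha hv, mul_ne_zero D.ha hu]

theorem act_pair (u v y : Fin 3 → F) :
    A (rO Q (D.emb T u) * rO Q (D.emb T v)) y = A (rO Q (D.emb T u)) (A (rO Q (D.emb T v)) y) := by
  rw [act, act, Subgroup.coe_mul, mul_app]
  congr 2
  exact ((D.inner_rO T v).emb_mem D T y).symm

/-- The flip of two of the three coordinates. -/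
theorem Over.exists_flip (hX : D.Over X) (k : Fin 3) :
    ∃ h ∈ hX.rot D T, ∀ y i, A h y i = if i = k then y i else -y i := by
  obtain ⟨p, q, hpq, hp, hq, hall⟩ : ∃ p q : Fin 3, p ≠ q ∧ p ≠ k ∧ q ≠ k ∧ ∀ i, i = k ∨ i = p ∨ i = q := by
    fin_cases k
    exacts [⟨1, 2, by decide, by decide, by decide, by decide⟩, ⟨0, 2, by decide, by decide, by decide, by decide⟩,
      ⟨0, 1, by decide, by decide, by decide, by decide⟩]
  refine ⟨rO Q (D.emb T (Pi.single p 1)) * rO Q (D.emb T (Pi.single q 1)),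
    hX.pair_rot (by simp) (by simp) (Outer.one D T) ?_, fun y i => ?_⟩
  · rw [mul_one, emb_single, emb_single]; exact hX.pair_mem _ _
  · rw [act_pair, D.act_rO, D.act_rO]
    rcases hall i with rfl | rfl | rfl
    · simp [hp.symm, hq.symm]
    · simp [hpq, hp]; ring
    · simp [hpq.symm, hpq, hq]; ring

/-- The cyclic permutation of the three coordinates. -/
theorem Over.exists_cycle (hX : D.Over X) :
    ∃ h ∈ hX.rot D T, ∀ y, A h y = ![y 2, y 0, y 1] := by
  refine ⟨rO Q (D.emb T (e₀ - e₁)) * rO Q (D.emb T (e₁ - e₂)),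
    hX.pair_rot (by simp [dot_three, D.two]; norm_num [D.two]) (by simp [dot_three, D.two]; norm_num [D.two])
      (Outer.one D T) ?_, fun y => ?_⟩
  · rw [mul_one, map_sub, map_sub, emb_single, emb_single, emb_single]
    exact hX.swp_mem (fun e => absurd (T.ι.injective e) (by decide)) (fun e => absurd (T.ι.injective e) (by decide))
  · have hne : (1 + 1 : F) ≠ 0 := by rw [one_add_one_eq_two]; exact D.two
    rw [act_pair, D.act_rO, D.act_rO]
    funext i
    fin_cases i <;> simp [dot_three] <;> field_simp <;> ring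

/-- A quarter turn. -/
theorem Over.exists_quarter (hX : D.Over X) :
    ∃ h ∈ hX.rot D T, ∀ y, A h y = ![-y 1, y 0, y 2] := by
  have h01 : T.ι 0 ≠ T.ι 1 := fun e => absurd (T.ι.injective e) (by decide)
  refine ⟨rO Q (D.emb T e₀) * rO Q (D.emb T (e₀ - e₁)),
    hX.pair_rot (by simp) (by simp [dot_three, D.two]; norm_num [D.two])
      ((Outer.of_rO D T (k := T.l₁) (Or.inl rfl)).mul D T (Outer.of_swp D T)) ?_, fun y => ?_⟩
  · rw [map_sub, emb_single, emb_single]
    have hc : rO Q (D.b (T.ι 0) - D.b (T.ι 1)) * rO Q (D.b T.l₁) =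
        rO Q (D.b T.l₁) * rO Q (D.b (T.ι 0) - D.b (T.ι 1)) := by
      refine D.outer_commute T ?_ (Outer.of_rO D T (Or.inl rfl))
      rw [← D.emb_single T 0, ← D.emb_single T 1, ← map_sub]
      exact D.inner_rO T _
    rw [mul_assoc, ← mul_assoc (rO Q (D.b (T.ι 0) - D.b (T.ι 1))), hc, mul_assoc (rO Q (D.b T.l₁)),
      ← mul_assoc (rO Q (D.b (T.ι 0)))]
    exact X.mul_mem (hX.pair_mem _ _) (hX.swp_mem h01 T.ne)
  · have hne : (1 + 1 : F) ≠ 0 := by rw [one_add_one_eq_two]; exact D.two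
    rw [act_pair, D.act_rO, D.act_rO]
    funext i
    fin_cases i <;> simp [dot_three] <;> field_simp <;> ring

/-- A frame image with three non-zero coordinates gives an element of characteristic order. -/
theorem Over.exists_order_char (hX : D.Over X) {f : Fin 3 → F} (hf : D.Orb X (D.lift3 T f))
    (hf0 : ∀ i, f i ≠ 0) : ∃ h ∈ hX.rot D T, h ≠ 1 ∧ h ^ Fintype.card F = 1 := by
  classical
  have hp : Fact (Fintype.card F).Prime := ⟨hX.prime⟩
  have : CharP F (Fintype.card F) := charP_of_card_eq_prime (p := Fintype.card F) rfl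
  by_contra hcon
  push Not at hcon
  have : Finite V := Module.finite_of_finite F
  have := H98.SubfieldOrth.finite_O (Q := Q)
  have hcop : ∀ x : hX.rot D T, (orderOf (x : O Q) : F) ≠ 0 := by
    intro x h
    obtain ⟨m, hm⟩ := (CharP.cast_eq_zero_iff F (Fintype.card F) _).1 h
    have h1 : ((x : O Q) ^ m) ^ Fintype.card F = 1 := by rw [← pow_mul, mul_comm, ← hm, pow_orderOf_eq_one]
    refine hcon _ ((hX.rot D T).pow_mem x.2 m) (fun e => ?_) h1
    have hle := Nat.le_of_dvd (by
      rcases Nat.eq_zero_or_pos m with rfl | hm0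
      · exact absurd (orderOf_pos (x : O Q)) (by rw [hm, mul_zero]; omega)
      · exact hm0) (orderOf_dvd_of_pow_eq_one e)
    rw [hm] at hle
    have := hX.prime.two_le
    have hpos := orderOf_pos (x : O Q)
    rw [hm] at hpos
    have : 0 < m := Nat.pos_of_mul_pos_left hpos
    nlinarith
  have hax : ∀ x : hX.rot D T, x ≠ 1 → ∃ y, y ⬝ᵥ y ≠ 0 ∧ A (x : O Q) y = y ∧
      ∀ z, A (x : O Q) z = z → ∃ c : F, z = c • y :=
    fun x hx => hX.exists_axis x.2 (fun e => hx (Subtype.ext e)) (hcop x)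
  set P := hX.axisPart hax
  obtain ⟨c, hc, hcy⟩ := hX.exists_cycle (T := T)
  obtain ⟨t, ht, hty⟩ := hX.exists_quarter (T := T)
  -- no axis is invariant
  have hprop : ∀ x : hX.rot D T, x ≠ 1 → P.nor x ≠ ⊤ := by
    intro x hx htop
    obtain ⟨y, hy, hxy, -⟩ := hax x hx
    have hinv : ∀ g ∈ hX.rot D T, A g y = y ∨ A g y = -y := fun g hg =>
      (hX.axisPart_facts hax hx).2 y hxy hy ⟨g, hg⟩ (by rw [htop]; trivial)
    have hz : ∀ i k, i ≠ k → y i = 0 ∨ y k = 0 := by
      intro i k hik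
      obtain ⟨g, hg, hgy⟩ := hX.exists_flip (T := T) k
      rcases hinv g hg with h | h
      · left
        have := congrFun h i
        rw [hgy, if_neg hik] at this
        exact (mul_eq_zero.1 (show (2 : F) * y i = 0 by linear_combination -this)).resolve_left D.two
      · right
        have := congrFun h k
        rw [hgy, if_pos rfl, Pi.neg_apply] at this
        exact (mul_eq_zero.1 (show (2 : F) * y k = 0 by linear_combination this)).resolve_left D.two
    apply hy
    rw [dot_three]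
    rcases hinv c hc with h | h <;>
    · have a0 := congrFun h 0
      have a1 := congrFun h 1
      have a2 := congrFun h 2
      simp only [hcy, Matrix.cons_val_zero, Matrix.cons_val_one, Matrix.cons_val_two, Matrix.head_cons,
        Matrix.tail_cons, Matrix.head_fin_const, Pi.neg_apply, Matrix.cons_val] at a0 a1 a2
      rcases hz 0 1 (by decide) with h0 | h0
      · have h1 : y 1 = 0 := by first | linear_combination h0 - a1 | linear_combination a1 - h0
        have h2 : y 2 = 0 := by first | linear_combination h1 - a2 | linear_combination a2 - h1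
        rw [h0, h1, h2]; ring
      · have h2 : y 2 = 0 := by first | linear_combination h0 - a2 | linear_combination a2 - h0
        have h1 : y 0 = 0 := by first | linear_combination h2 - a0 | linear_combination a0 - h2
        rw [h0, h1, h2]; ring
  have ht4 : orderOf (⟨t, ht⟩ : hX.rot D T) = 4 := by
    have h2 : A (t * t) e₀ = -e₀ := by
      rw [hX.act_mul ht, hty, hty]; funext i; fin_cases i <;> simp
    have h4 : t * t * (t * t) = 1 := by
      refine hX.rot_eq_one (Subgroup.mul_mem _ (Subgroup.mul_mem _ ht ht) (Subgroup.mul_mem _ ht ht))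
        (x := e₀) (y := e₂) ?_ ?_ (by simp [dot_three])
      · rw [hX.act_mul (Subgroup.mul_mem _ ht ht), h2, ← neg_one_smul F, act_smul, h2, neg_one_smul, neg_neg]
      · have h3 : A t e₂ = e₂ := by rw [hty]; funext i; fin_cases i <;> simp
        have h5 : A (t * t) e₂ = e₂ := by rw [hX.act_mul ht, h3, h3]
        rw [hX.act_mul (Subgroup.mul_mem _ ht ht), h5, h5]
    rw [← Subgroup.orderOf_coe]
    refine orderOf_eq_prime_pow (p := 2) (n := 1) ?_ ?_
    · intro e
      rw [pow_one, pow_two] at e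
      have h := congrFun h2 0
      rw [show A (t * t) e₀ = e₀ by rw [show t * t = 1 from e, act_one]] at h
      simp at h
      exact D.two (by linear_combination h)
    · rw [show (2 : ℕ) ^ (1 + 1) = 2 + 2 by norm_num, pow_add, pow_two]; exact h4
  set τ : hX.rot D T := ⟨t, ht⟩
  have hτ1 : τ ≠ 1 := fun e => by rw [e, orderOf_one] at ht4; omega
  have hidx := index_nor_eq_three P (fun x hx => (hX.axisPart_facts hax hx).1) hprop ht4
  have hτfix : A (τ : O Q) e₂ = e₂ := by rw [hty]; funext i; fin_cases i <;> simp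
  have hnor : ∀ g ∈ P.nor τ, A (g : O Q) e₂ = e₂ ∨ A (g : O Q) e₂ = -e₂ :=
    (hX.axisPart_facts hax hτ1).2 e₂ hτfix (by simp)
  -- three cosets
  set γ : hX.rot D T := ⟨c, hc⟩
  have g1 : A c e₂ = e₀ := by rw [hcy]; funext i; fin_cases i <;> simp
  have g2 : A (c * c) e₂ = e₁ := by rw [hX.act_mul hc, g1, hcy]; funext i; fin_cases i <;> simp
  have hγ : γ ∉ P.nor τ := fun h => by
    rcases hnor γ h with h | h <;> have := congrFun (g1.symm.trans h) 0 <;> simp at this
  have hγγ : γ * γ ∉ P.nor τ := fun h => by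
    rcases hnor _ h with h | h <;> have := congrFun (g2.symm.trans h) 1 <;> simp at this
  let φ : Fin 3 → hX.rot D T ⧸ P.nor τ := fun k => QuotientGroup.mk (![1, γ, γ * γ] k)
  have hφ : Function.Injective φ := by
    intro i j hij
    rw [QuotientGroup.eq] at hij
    fin_cases i <;> fin_cases j <;> simp_all [Subgroup.inv_mem_iff] <;>
      exact hγγ (by simpa [mul_inv_rev] using (P.nor τ).inv_mem hij)
  have hsurj : Function.Surjective φ :=
    ((Nat.bijective_iff_injective_and_card φ).2 ⟨hφ, by rw [Nat.card_fin]; exact hidx.symm⟩).2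
  -- a rotation moving the axis off the frame
  have hff : f ⬝ᵥ f = 1 := by
    refine mul_left_cancel₀ D.ha ?_
    rw [← D.Q_emb T, ← D.vec_lift3 T, D.Q_vec, hf.norm]
  have hw : rO Q (D.emb T f) * rO Q (D.emb T e₀) ∈ hX.rot D T := by
    refine hX.pair_rot (by rw [hff]; exact one_ne_zero) (by simp) (Outer.one D T) ?_
    rw [mul_one, ← D.vec_lift3 T f, emb_single, ← D.vec_unit]
    exact hX.rO_rO_mem hf (orb_unit _)
  obtain ⟨k, hk⟩ := hsurj (QuotientGroup.mk ⟨_, hw⟩)
  rw [QuotientGroup.eq] at hk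
  set r : hX.rot D T := ![1, γ, γ * γ] k with hr
  have hkey : ∃ j : Fin 3, ∀ i, i ≠ j → A (rO Q (D.emb T f) * rO Q (D.emb T e₀)) e₂ i = 0 := by
    have hrot : A (rO Q (D.emb T f) * rO Q (D.emb T e₀)) e₂ =
        A (r : O Q) (A ((r⁻¹ * ⟨_, hw⟩ : hX.rot D T) : O Q) e₂) := by
      rw [← hX.act_mul (r⁻¹ * ⟨_, hw⟩).2, ← Subgroup.coe_mul, mul_inv_cancel_left]
    have hr2 : ∃ j : Fin 3, A (r : O Q) e₂ = Pi.single j 1 := by
      rw [hr]; fin_cases k
      exacts [⟨2, act_one _⟩, ⟨0, g1⟩, ⟨1, g2⟩]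
    obtain ⟨j, hj⟩ := hr2
    refine ⟨j, fun i hi => ?_⟩
    rcases hnor _ hk with h | h <;> rw [hrot, h]
    · rw [hj, Pi.single_eq_of_ne hi]
    · rw [← neg_one_smul F e₂, act_smul, hj, Pi.smul_apply, Pi.single_eq_of_ne hi, smul_zero]
  obtain ⟨j, hj⟩ := hkey
  obtain ⟨i, hi2, hij⟩ : ∃ i : Fin 3, i ≠ 2 ∧ i ≠ j := by
    fin_cases j
    exacts [⟨1, by decide, by decide⟩, ⟨0, by decide, by decide⟩, ⟨0, by decide, by decide⟩]
  have := hj i hij
  rw [act_pair, D.act_rO, D.act_rO, hff] at this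
  simp [hi2, hf0, D.two] at this

end Frm

end Cfsg.Agent.H85.Frame
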