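import Cfsg.Agent.H85.Frame.Unipotent

/-!
A group properly over the frame stabiliser contains Ω.
-/

set_option autoImplicit false

namespace Cfsg.Agent.H85.Frame

open QuadraticMap Module Cfsg.Agent.Orthogonal Cfsg.Agent.H98
open Cfsg.Agent.H98.SubfieldOrth (SIn)

variable {F V : Type*} [Field F] [Fintype F] [DecidableEq F] [AddCommGroup V] [Module F V] [FiniteDimensional F V]
  {Q : QuadraticForm F V} {n : ℕ}

namespace Frm

variable {D : Frm Q n} {T : Trio n} {X : Subgroup (O Q)}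

local notation "A" => act (D := D) (T := T)

omit [DecidableEq F] in
/-- A root group of the three-space moving a frame image gives a tangent pair. -/
theorem Over.root_contra (hX : D.Over X) (hnt : hX.NT) {v y : Fin 3 → F} (hv : Root D T X v) (hv0 : v ≠ 0)
    (hvy : v ⬝ᵥ y = 0) {f : Fin n → F} (hf : D.Orb X f) (h1 : D.lift3 T v ⬝ᵥ f = 0)
    (h2 : D.lift3 T y ⬝ᵥ f ≠ 0) : False := by
  obtain ⟨hu, hw, hm⟩ := hv.2 y hvy
  set c : F := 2 * D.a * (D.lift3 T y ⬝ᵥ f) with hc
  have hpol : ∀ z, polar Q (D.emb T z) (D.vec f) = 2 * D.a * (D.lift3 T z ⬝ᵥ f) := fun z => by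
    rw [← D.vec_lift3 T z, D.polar_vec]
  have hf' : D.Orb X (f + c • D.lift3 T v) := by
    refine hf.map hm ?_
    rw [sie_app, hpol, hpol, h1, mul_zero, mul_zero, sub_zero, zero_smul, sub_zero, map_add, map_smul, D.vec_lift3]
  have hdot : f ⬝ᵥ (f + c • D.lift3 T v) = 1 := by
    rw [dotProduct_add, dotProduct_smul, dotProduct_comm f (D.lift3 T v), h1, smul_zero, add_zero, hf.norm]
  have e := hnt f _ hf hf' hdot
  rw [left_eq_add, smul_eq_zero] at e
  rcases e with e | e
  · exact mul_ne_zero (mul_ne_zero D.two D.ha) h2 e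
  · exact hv0 (funext fun i => by rw [← D.lift3_app T v i, e]; rfl)

theorem Over.supp_lift3 (_ : D.Over X) (y : Fin 3 → F) : (supp (D.lift3 T y)).card ≤ 3 := by
  refine (Finset.card_le_card (t := Finset.univ.map T.ι) fun k hk => ?_).trans (by simp)
  by_contra h
  exact mem_supp.1 hk (D.lift3_out T y fun i e => h (by simp [← e]))

omit [DecidableEq F] in
theorem lift3_dot (y : Fin 3 → F) (f : Fin n → F) :
    D.lift3 T y ⬝ᵥ f = y 0 * f (T.ι 0) + y 1 * f (T.ι 1) + y 2 * f (T.ι 2) := by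
  rw [dotProduct, ← Finset.sum_subset (Finset.subset_univ (Finset.univ.map T.ι)) (fun k _ hk => ?_), Finset.sum_map,
    Fin.sum_univ_three, D.lift3_app, D.lift3_app, D.lift3_app]
  rw [D.lift3_out T y (fun i e => hk (by simp [← e])), zero_mul]

/-- No frame image has support three. -/
theorem Over.three_contra (hX : D.Over X) (hnt : hX.NT) {f : Fin 3 → F} (hf : D.Orb X (D.lift3 T f))
    (hf0 : ∀ i, f i ≠ 0) : False := by
  classical
  have hn := hX.five
  have : Fact (Fintype.card F).Prime := ⟨hX.prime⟩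
  have : CharP F (Fintype.card F) := charP_of_card_eq_prime (p := Fintype.card F) rfl
  have hsq : ∀ i, f i * f i ≠ 1 := fun i h => by
    have hl : ∀ j, j ≠ i → False := fun j hj => by
      have := hX.supp_sq_one hnt hf (k := T.ι i) (l := T.ι j) (by rw [D.lift3_app]; exact h)
        (by rw [D.lift3_app]; exact hf0 j)
      exact hj (T.ι.injective this)
    fin_cases i
    exacts [hl 1 (by decide), hl 0 (by decide), hl 0 (by decide)]
  have hff : f 0 * f 0 + f 1 * f 1 + f 2 * f 2 = 1 := by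
    rw [← dot_three]
    refine mul_left_cancel₀ D.ha ?_
    rw [← D.Q_emb T, ← D.vec_lift3 T, D.Q_vec, hf.norm]
  have hcard : ∀ p : ℕ, p.Prime → (p : F) = 0 → Fintype.card F = p := fun p hp h =>
    (Nat.prime_dvd_prime_iff_eq hX.prime hp).1 ((CharP.cast_eq_zero_iff F (Fintype.card F) p).1 h)
  have h3 : (3 : F) ≠ 0 := fun h => by
    have e := FiniteField.pow_card_sub_one_eq_one (f 0) (hf0 0)
    rw [hcard 3 Nat.prime_three (by exact_mod_cast h)] at e
    exact hsq 0 (by rw [← e]; ring)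
  have h5 : (5 : F) ≠ 0 := fun h => by
    have hm : ∀ i, f i * f i = -1 := fun i => by
      have e := FiniteField.pow_card_sub_one_eq_one (f i) (hf0 i)
      rw [hcard 5 (by norm_num) (by exact_mod_cast h)] at e
      exact (mul_self_eq_one_iff.1 (show (f i * f i) * (f i * f i) = 1 by rw [← e]; ring)).resolve_left (hsq i)
    rw [hm, hm, hm] at hff
    exact mul_ne_zero D.two D.two (by linear_combination -hff)
  obtain ⟨h, hh, h1, hp⟩ := hX.exists_order_char hf hf0
  obtain ⟨u, hu0, hu⟩ := hX.exists_root hh h1 hp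
  have hall : ∀ v : Fin 3 → F, v ≠ 0 → v ⬝ᵥ v = 0 → Root D T X v := fun v hv0 hv => hX.root_all hu0 hu hv0 hv
  have hnz : ∀ v : Fin 3 → F, v ≠ 0 → v ⬝ᵥ v = 0 → ∀ k, v k ≠ 0 := by
    intro v hv0 hv k hk
    have hl : ∀ z : Fin 3 → F, D.lift3 T z ⬝ᵥ D.unit (T.ι k) = z k := fun z => by
      simp [unit, D.lift3_app]
    exact hX.root_contra hnt (y := Pi.single k 1) (hall v hv0 hv) hv0 (by simp [hk]) (orb_unit (T.ι k))
      (by rw [hl, hk]) (by rw [hl]; simp)
  have hu2 := hnz u hu0 hu.1 2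
  have huu : u 0 * u 0 + u 1 * u 1 + u 2 * u 2 = 0 := by rw [← dot_three]; exact hu.1
  -- a frame image with third coordinate 17/8
  have h4a : (4 * D.a * (u 2 * u 2) : F) ≠ 0 :=
    mul_ne_zero (mul_ne_zero (by rw [show (4 : F) = 2 * 2 by norm_num]; exact mul_ne_zero D.two D.two) D.ha)
      (mul_ne_zero hu2 hu2)
  set t : F := 3 / (4 * D.a * (u 2 * u 2)) with ht
  set ξ : Fin 3 → F := ![t * u 1, -(t * u 0), 0] with hξ
  have hperp : u ⬝ᵥ ξ = 0 := by
    rw [dot_three]; simp [hξ]; ring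
  obtain ⟨hQu, hpu, hm⟩ := hu.2 ξ hperp
  have hgorb := hX.act_orb (hX.sie_rot hQu hpu hm) (y := Pi.single 2 1) (by
    convert orb_unit (D := D) (X := X) (T.ι 2) using 1
    funext k
    by_cases hk : ∃ i, T.ι i = k
    · obtain ⟨i, rfl⟩ := hk
      simp [D.lift3_app, unit, Pi.single_apply]
    · push Not at hk
      rw [D.lift3_out T _ hk]
      simp [unit, (hk 2).symm])
  set g := A (sie (D.emb T u) (D.emb T ξ) hQu hpu) (Pi.single 2 1) with hg
  have h8 : (8 : F) ≠ 0 := by rw [show (8 : F) = 2 * 2 * 2 by norm_num]; exact mul_ne_zero (mul_ne_zero D.two D.two) D.two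
  have hξe : ξ ⬝ᵥ (Pi.single 2 1 : Fin 3 → F) = 0 := by simp [hξ]
  have hξξ : ξ ⬝ᵥ ξ = -(t * t * (u 2 * u 2)) := by
    rw [dot_three]; simp [hξ]
    linear_combination (t * t) * huu
  have hue : u ⬝ᵥ (Pi.single 2 1 : Fin 3 → F) = u 2 := by simp
  have hg2 : g 2 = 17 / 8 := by
    rw [hg, act_sie, hξe, hξξ, hue]
    simp [hξ]
    have key : D.a * t * (u 2 * u 2) * 4 = 3 := by
      rw [ht, show D.a * (3 / (4 * D.a * (u 2 * u 2))) * (u 2 * u 2) * 4 =
        3 * ((4 * D.a * (u 2 * u 2)) / (4 * D.a * (u 2 * u 2))) by ring, div_self h4a, mul_one]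
    rw [eq_div_iff h8]
    linear_combination (D.a * t * (u 2 * u 2) * 4 + 3) * key
  have hgg : g 0 * g 0 + g 1 * g 1 + g 2 * g 2 = 1 := by
    rw [← dot_three, hg, hX.act_dot (hX.sie_rot hQu hpu hm)]; simp
  set r : F := 15 / 8 with hr
  have hr0 : r ≠ 0 := div_ne_zero (by rw [show (15 : F) = 3 * 5 by norm_num]; exact mul_ne_zero h3 h5) h8
  set v : Fin 3 → F := ![g 1, -g 0, r] with hv
  have hgr : g 0 * g 0 + g 1 * g 1 + r * r = 0 := by
    rw [hg2] at hgg
    rw [hr]
    field_simp at hgg ⊢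
    linear_combination hgg
  have hv0 : v ≠ 0 := fun e => hr0 (by simpa [hv] using congrFun e 2)
  have hvv : v ⬝ᵥ v = 0 := by rw [dot_three]; simp [hv]; linear_combination hgr
  have hg' := hgorb.perm hX (by have := hX.supp_lift3 (T := T) g; omega) (Equiv.swap (T.ι 2) T.l₁)
  have f0 : (D.lift3 T g ∘ Equiv.swap (T.ι 2) T.l₁) (T.ι 0) = g 0 := by
    rw [Function.comp_apply, Equiv.swap_apply_of_ne_of_ne (fun e => absurd (T.ι.injective e) (by decide)) (T.out₁ 0),
      D.lift3_app]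
  have f1 : (D.lift3 T g ∘ Equiv.swap (T.ι 2) T.l₁) (T.ι 1) = g 1 := by
    rw [Function.comp_apply, Equiv.swap_apply_of_ne_of_ne (fun e => absurd (T.ι.injective e) (by decide)) (T.out₁ 1),
      D.lift3_app]
  have f2 : (D.lift3 T g ∘ Equiv.swap (T.ι 2) T.l₁) (T.ι 2) = 0 := by
    rw [Function.comp_apply, Equiv.swap_apply_left, D.lift3_out T g T.out₁]
  refine hX.root_contra hnt (y := ![g 0, g 1, 0]) (hall v hv0 hvv) hv0 ?_ hg' ?_ ?_
  · rw [dot_three]; simp [hv]; ring
  · rw [lift3_dot, f0, f1, f2]; simp [hv]; ring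
  · rw [lift3_dot, f0, f1, f2]
    simp
    intro e
    exact hr0 (mul_self_eq_zero.1 (by linear_combination hgr - e))

/-- A group over the frame stabiliser with a further element contains Ω. -/
theorem Over.sieGroup_le (hX : D.Over X) {g : O Q} (hg : g ∈ X) (hgm : ¬ D.Mon g) : sieGroup Q ≤ X := by
  classical
  by_contra hno
  have hnt := hX.nt_of_not hno
  obtain ⟨f, hf, hf3⟩ := hX.exists_three hnt hg hgm
  obtain ⟨a, b, c, hab, hac, hbc, hS⟩ := Finset.card_eq_three.1 hf3
  have hn := hX.five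
  obtain ⟨l, hl, m, hm, hlm⟩ := Finset.one_lt_card.1 (show 1 < (Finset.univ \ supp f).card by
    rw [Finset.card_univ_sdiff, Fintype.card_fin, hf3]; omega)
  simp only [Finset.mem_sdiff, Finset.mem_univ, true_and, hS, Finset.mem_insert, Finset.mem_singleton, not_or] at hl hm
  let T : Trio n :=
    { ι := ⟨![a, b, c], by
        intro i j h
        fin_cases i <;> fin_cases j <;> simp_all⟩
      l₁ := l
      l₂ := m
      ne := hlm
      out₁ := fun i => by fin_cases i <;> simp <;> tauto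
      out₂ := fun i => by fin_cases i <;> simp <;> tauto }
  have hf0 : ∀ i, f (T.ι i) ≠ 0 := fun i => mem_supp.1 (by fin_cases i <;> simp [hS, T, Function.Embedding.coeFn_mk, DFunLike.coe])
  refine hX.three_contra (T := T) hnt (f := f ∘ T.ι) ?_ hf0
  convert hf using 1
  funext k
  by_cases hk : ∃ i, T.ι i = k
  · obtain ⟨i, rfl⟩ := hk
    rw [D.lift3_app]; rfl
  · push Not at hk
    rw [D.lift3_out T _ hk, eq_zero_of_notMem (f := f) (k := k) ?_]
    rw [hS]
    simp only [Finset.mem_insert, Finset.mem_singleton, not_or]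
    exact ⟨fun e => hk 0 e.symm, fun e => hk 1 e.symm, fun e => hk 2 e.symm⟩

end Frm

end Cfsg.Agent.H85.Frame
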