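import Cfsg.Agent.H85.Frame.Basic
import Cfsg.Agent.H98.OrthMax.Roots

/-!
Two tangent frame images generate Ω.
-/

set_option autoImplicit false

namespace Cfsg.Agent.H85.Frame

open QuadraticMap Module Cfsg.Agent.Orthogonal Cfsg.Agent.H98
open Cfsg.Agent.H98.SubfieldOrth (SIn sIn_zero)

/-- Some signed sum avoids both signs of a given element. -/
theorem exists_signed_ne {F ι : Type*} [Field F] [DecidableEq ι] (h2 : (2 : F) ≠ 0) (O : Finset ι)
    (hO : 2 ≤ O.card) (t : ι → F) (ht : ∀ k ∈ O, t k ≠ 0) (a : F) :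
    ∃ s ⊆ O, (∑ k ∈ O, if k ∈ s then -t k else t k) ≠ a ∧ (∑ k ∈ O, if k ∈ s then -t k else t k) ≠ -a := by
  by_contra hcon
  push Not at hcon
  have h0 : ∀ s, s ⊆ O → (∑ k ∈ O, if k ∈ s then -t k else t k) = a ∨
      (∑ k ∈ O, if k ∈ s then -t k else t k) = -a := fun s hs => by
    by_cases h : (∑ k ∈ O, if k ∈ s then -t k else t k) = a
    · exact Or.inl h
    · exact Or.inr (hcon s hs h)
  have hsum : ∀ s, s ⊆ O → (∑ k ∈ O, if k ∈ s then -t k else t k) = (∑ k ∈ O, t k) - 2 * ∑ k ∈ s, t k := by
    intro s hs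
    rw [← Finset.sum_sdiff hs, ← Finset.sum_sdiff (f := t) hs,
      Finset.sum_congr rfl (fun k hk => if_neg (Finset.mem_sdiff.1 hk).2),
      Finset.sum_congr rfl (fun k hk => if_pos hk), Finset.sum_neg_distrib]
    ring
  obtain ⟨j, hj, k, hk, hjk⟩ := Finset.one_lt_card.1 (show 1 < O.card by omega)
  set R := ∑ i ∈ O, t i
  have h4 : (4 : F) ≠ 0 := by rw [show (4 : F) = 2 * 2 by norm_num]; exact mul_ne_zero h2 h2
  have e0 := h0 ∅ (Finset.empty_subset _)
  rw [hsum ∅ (Finset.empty_subset _), Finset.sum_empty, mul_zero, sub_zero] at e0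
  have flip1 : ∀ i ∈ O, t i = R := by
    intro i hi
    have e := h0 {i} (Finset.singleton_subset_iff.2 hi)
    rw [hsum {i} (Finset.singleton_subset_iff.2 hi), Finset.sum_singleton] at e
    rcases e0 with e0 | e0 <;> rcases e with e | e
    · exact absurd (show (2 : F) * t i = 0 by linear_combination e0 - e) (mul_ne_zero h2 (ht i hi))
    · refine mul_left_cancel₀ h2 ?_; linear_combination -e - e0
    · refine mul_left_cancel₀ h2 ?_; linear_combination -e - e0
    · exact absurd (show (2 : F) * t i = 0 by linear_combination e0 - e) (mul_ne_zero h2 (ht i hi))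
  have hR : R ≠ 0 := flip1 j hj ▸ ht j hj
  have hpair : ({j, k} : Finset ι) ⊆ O := by simp [Finset.insert_subset_iff, hj, hk]
  have e := h0 {j, k} hpair
  rw [hsum {j, k} hpair, Finset.sum_pair hjk, flip1 j hj, flip1 k hk] at e
  rcases e0 with e0 | e0 <;> rcases e with e | e
  · exact mul_ne_zero h4 hR (by linear_combination e0 - e)
  · exact mul_ne_zero h2 hR (by linear_combination -e - e0)
  · exact mul_ne_zero h2 hR (by linear_combination -e - e0)
  · exact mul_ne_zero h4 hR (by linear_combination e0 - e)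

variable {F V : Type*} [Field F] [Fintype F] [AddCommGroup V] [Module F V] [FiniteDimensional F V]
  {Q : QuadraticForm F V} {n : ℕ} {D : Frm Q n} {X : Subgroup (O Q)}

namespace Frm

/-- A frame vector and a tangent image of one generate Ω. -/
theorem Over.sieGroup_le_of_tangent (hX : D.Over X) {w : Fin n → F} {i1 : Fin n} (hi1 : w i1 = 0)
    (hw0 : w ≠ 0) (hxw : D.Orb X (D.unit i1 + w)) : sieGroup Q ≤ X := by
  classical
  have hn := hX.five
  set x := D.unit i1 with hx
  have hxdot : ∀ f : Fin n → F, x ⬝ᵥ f = f i1 := fun f => by simp [hx, unit]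
  have hww : w ⬝ᵥ w = 0 := by
    have h := hxw.norm
    simp only [add_dotProduct, dotProduct_add, dotProduct_comm w x, hxdot, hi1] at h
    simpa [hx, unit] using h
  have hxT : SIn X (D.vec w) (D.vec x) :=
    hX.sIn_tangent one_ne_zero (orb_unit i1) (by rwa [one_smul]) (by rw [hxdot, hi1])
  let T : Submodule F (Fin n → F) :=
    { carrier := {f | SIn X (D.vec w) (D.vec f)}
      add_mem' := fun {f g} hf hg => by
        show SIn X (D.vec w) (D.vec (f + g))
        rw [map_add]; exact hf.add hg
      zero_mem' := by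
        show SIn X (D.vec w) (D.vec 0)
        rw [map_zero]; exact sIn_zero hxT.singular
      smul_mem' := fun c f hf => by
        show SIn X (D.vec w) (D.vec (c • f))
        rw [map_smul]; exact hX.sIn_smul hf c }
  -- moving an image by a root element
  have hmove : ∀ {f g : Fin n → F}, f ∈ T → D.Orb X g → w ⬝ᵥ g = 0 → D.Orb X (g + (2 * D.a * (f ⬝ᵥ g)) • w) := by
    intro f g hf hg hwg
    obtain ⟨hu, hw, hm⟩ := (hf : SIn X (D.vec w) (D.vec f))
    refine hg.map hm ?_
    rw [sie_app, map_add, map_smul, D.polar_vec w g, hwg, D.polar_vec f g]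
    module
  have hrule : ∀ {f g : Fin n → F}, f ∈ T → D.Orb X g → w ⬝ᵥ g = 0 → f ⬝ᵥ g ≠ 0 → g ∈ T :=
    fun {f g} hf hg hwg hfg => hX.sIn_tangent (mul_ne_zero (mul_ne_zero D.two D.ha) hfg) hg (hmove hf hg hwg)
      (by rw [dotProduct_comm]; exact hwg)
  have hline : ∀ c : F, D.Orb X (x + c • w) := by
    intro c
    have := hmove (T.smul_mem (c / (2 * D.a)) (show x ∈ T from hxT)) (orb_unit i1)
      (by rw [← hx, dotProduct_comm, hxdot, hi1])
    rwa [← hx, smul_dotProduct, hxdot, show x i1 = 1 by simp [hx, unit], smul_eq_mul, mul_one,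
      mul_div_cancel₀ _ (mul_ne_zero D.two D.ha)] at this
  set S := Finset.univ.filter fun k => w k ≠ 0 with hS
  have hSmem : ∀ k, k ∈ S ↔ w k ≠ 0 := fun k => by simp [hS]
  have hdot : ∀ f : Fin n → F, w ⬝ᵥ f = ∑ k ∈ S, w k * f k := fun f => by
    rw [dotProduct, hS, Finset.sum_filter]
    exact Finset.sum_congr rfl fun k _ => by by_cases h : w k = 0 <;> simp [h]
  have hne1 : ∀ k ∈ S, k ≠ i1 := fun k hk e => (hSmem k).1 hk (e ▸ hi1)
  obtain ⟨i0, hi0⟩ : S.Nonempty := by
    by_contra h
    rw [Finset.not_nonempty_iff_eq_empty] at h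
    exact hw0 (funext fun k => by_contra fun hk => (Finset.eq_empty_iff_forall_notMem.1 h) k ((hSmem k).2 hk))
  have hS2 : 2 ≤ S.card := by
    by_contra h
    have hS1 : S = {i0} := Finset.eq_singleton_iff_unique_mem.2 ⟨hi0, fun k hk =>
      Finset.card_le_one.1 (by omega) k hk i0 hi0⟩
    have := hdot w
    rw [hww, hS1, Finset.sum_singleton] at this
    exact mul_ne_zero ((hSmem i0).1 hi0) ((hSmem i0).1 hi0) this.symm
  have hjoin : ∀ {f : Fin n → F} {l : Fin n}, f ∈ T → w l = 0 → f l ≠ 0 → D.unit l ∈ T :=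
    fun {f l} hf hl hfl => hrule hf (orb_unit l) (by simp [unit, hl]) (by simp [unit, hfl])
  -- the coordinates off the support
  have hoff : ∀ l, w l = 0 → D.unit l ∈ T := by
    intro l hl
    rcases eq_or_ne l i1 with rfl | hl1
    · exact hxT
    have hlS : l ∉ S := fun h => (hSmem l).1 h hl
    obtain ⟨j0, hj0, hj00⟩ : ∃ j ∈ S, j ≠ i0 := Finset.exists_mem_ne (by omega) i0
    have hlj : l ≠ j0 := fun e => hlS (e ▸ hj0)
    have hli : l ≠ i0 := fun e => hlS (e ▸ hi0)
    by_cases hS3 : S.card = 2
    · have hSeq : S = {i0, j0} := (Finset.eq_of_subset_of_card_le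
        (by simp [Finset.insert_subset_iff, hi0, hj0]) (by rw [hS3, Finset.card_pair hj00.symm])).symm
      obtain ⟨l', hl'⟩ : (Finset.univ \ ({i0, j0, i1, l} : Finset (Fin n))).Nonempty := by
        rw [← Finset.card_pos, Finset.card_univ_sdiff, Fintype.card_fin]
        have := Finset.card_le_four (a := i0) (b := j0) (c := i1) (d := l)
        omega
      simp only [Finset.mem_sdiff, Finset.mem_univ, Finset.mem_insert, Finset.mem_singleton, true_and, not_or] at hl'
      obtain ⟨hl'i, hl'j, hl'1, hl'l⟩ := hl'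
      have hl'0 : w l' = 0 := by
        by_contra h
        have := (hSmem l').2 h
        rw [hSeq] at this
        simp [hl'i, hl'j] at this
      set y := (x + (1 : F) • w) ∘ Equiv.swap j0 l' ∘ Equiv.swap i0 l with hy
      have hyorb : D.Orb X y := (hline 1).swap hX (Ne.symm hli) (Ne.symm hl'j)
      have y1 : y i1 = 1 := by
        simp [hy, hx, unit, Equiv.swap_apply_of_ne_of_ne (hne1 i0 hi0).symm hl1.symm,
          Equiv.swap_apply_of_ne_of_ne (hne1 j0 hj0).symm (Ne.symm hl'1), hi1]
      have yl : y l = w i0 := by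
        simp [hy, hx, unit, Equiv.swap_apply_of_ne_of_ne hj00.symm (Ne.symm hl'i), hne1 i0 hi0]
      have ySi : y i0 = 0 := by
        simp [hy, hx, unit, Equiv.swap_apply_of_ne_of_ne hlj (Ne.symm hl'l), hl1, hl]
      have ySj : y j0 = 0 := by
        simp [hy, hx, unit, Equiv.swap_apply_of_ne_of_ne hj00 hlj.symm, hl'1, hl'0]
      refine hjoin (hrule (show x ∈ T from hxT) hyorb ?_ (by rw [hxdot, y1]; exact one_ne_zero)) hl
        (by rw [yl]; exact (hSmem i0).1 hi0)
      rw [hdot, hSeq, Finset.sum_pair hj00.symm, ySi, ySj]; ring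
    · set O := (S.erase i0).erase j0 with hO
      obtain ⟨q, hq⟩ : O.Nonempty := by
        rw [← Finset.card_pos, Finset.card_erase_of_mem (Finset.mem_erase.2 ⟨hj00, hj0⟩),
          Finset.card_erase_of_mem hi0]
        omega
      have hOmem : ∀ {k}, k ∈ O → k ≠ j0 ∧ k ≠ i0 ∧ k ≠ i1 ∧ k ≠ l ∧ w k ≠ 0 := fun {k} hk => by
        simp only [hO, Finset.mem_erase] at hk
        exact ⟨hk.1, hk.2.1, hne1 k hk.2.2, fun e => hlS (e ▸ hk.2.2), (hSmem k).1 hk.2.2⟩
      obtain ⟨s, hsO, hs⟩ : ∃ s ⊆ O, (∑ k ∈ O, (if k ∈ s then -(w k * w k) else w k * w k)) ≠ 0 := by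
        by_cases h : (∑ k ∈ O, w k * w k) = 0
        · refine ⟨{q}, Finset.singleton_subset_iff.2 hq, fun e => ?_⟩
          rw [← Finset.add_sum_erase _ _ hq] at e h
          rw [if_pos (Finset.mem_singleton_self q),
            Finset.sum_congr rfl (fun k hk => if_neg (by simpa using Finset.ne_of_mem_erase hk))] at e
          exact mul_ne_zero D.two (mul_ne_zero (hOmem hq).2.2.2.2 (hOmem hq).2.2.2.2)
            (by linear_combination h - e)
        · exact ⟨∅, Finset.empty_subset _, by simpa using h⟩
      set A := ∑ k ∈ O, (if k ∈ s then -(w k * w k) else w k * w k) with hA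
      set c := -w i0 / A with hc
      have hc0 : c ≠ 0 := div_ne_zero (neg_ne_zero.2 ((hSmem i0).1 hi0)) hs
      set y₀ := (x + c • w) ∘ Equiv.swap j0 l ∘ Equiv.swap i1 i0 with hy₀
      set y : Fin n → F := fun k => if k ∈ s then -y₀ k else y₀ k with hy
      have hyorb : D.Orb X y := ((hline c).swap hX (hne1 i0 hi0).symm (Ne.symm hlj)).sign hX s
      have hs' : ∀ {k}, k ∉ O → k ∉ s := fun {k} hk h => hk (hsO h)
      have y1 : y i1 = c * w i0 := by
        rw [hy]; dsimp only
        rw [if_neg (hs' fun h => (hOmem h).2.2.1 rfl)]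
        simp [hy₀, hx, unit, Equiv.swap_apply_of_ne_of_ne hj00.symm (Ne.symm hli), hne1 i0 hi0]
      have y0 : y i0 = 1 := by
        rw [hy]; dsimp only
        rw [if_neg (hs' fun h => (hOmem h).2.1 rfl)]
        simp [hy₀, hx, unit, Equiv.swap_apply_of_ne_of_ne (hne1 j0 hj0).symm (Ne.symm hl1), hi1]
      have yl : y l = c * w j0 := by
        rw [hy]; dsimp only
        rw [if_neg (hs' fun h => (hOmem h).2.2.2.1 rfl)]
        simp [hy₀, hx, unit, Equiv.swap_apply_of_ne_of_ne hl1 hli, hne1 j0 hj0]
      have yj : y j0 = 0 := by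
        rw [hy]; dsimp only
        rw [if_neg (hs' fun h => (hOmem h).1 rfl)]
        simp [hy₀, hx, unit, Equiv.swap_apply_of_ne_of_ne (hne1 j0 hj0) hj00, hl1, hl]
      have yk : ∀ k ∈ O, w k * y k = c * (if k ∈ s then -(w k * w k) else w k * w k) := fun k hk => by
        obtain ⟨a1, a2, a3, a4, -⟩ := hOmem hk
        rw [hy]; dsimp only
        have : y₀ k = c * w k := by
          simp [hy₀, hx, unit, Equiv.swap_apply_of_ne_of_ne a3 a2, Equiv.swap_apply_of_ne_of_ne a1 a4, a3]
        split_ifs <;> rw [this] <;> ring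
      refine hjoin (hrule (show x ∈ T from hxT) hyorb ?_
        (by rw [hxdot, y1]; exact mul_ne_zero hc0 ((hSmem i0).1 hi0))) hl
        (by rw [yl]; exact mul_ne_zero hc0 ((hSmem j0).1 hj0))
      rw [hdot, ← Finset.add_sum_erase _ _ hi0, ← Finset.add_sum_erase _ _ (Finset.mem_erase.2 ⟨hj00, hj0⟩),
        y0, yj, ← hO, Finset.sum_congr rfl yk, ← Finset.mul_sum, ← hA, hc, div_mul_cancel₀ _ hs]
      ring
  -- the part in the support
  have hon : ∀ i ∈ S, w i • D.unit i0 - w i0 • D.unit i ∈ T := by
    intro i hi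
    rcases eq_or_ne i i0 with rfl | hii
    · rw [sub_self]; exact T.zero_mem
    have hwi := (hSmem i).1 hi
    have hw0' := (hSmem i0).1 hi0
    by_cases hS3 : S.card = 2
    · have hSeq : S = {i0, i} := (Finset.eq_of_subset_of_card_le
        (by simp [Finset.insert_subset_iff, hi0, hi]) (by rw [hS3, Finset.card_pair hii.symm])).symm
      have e : w i0 * w i0 + w i * w i = 0 := by rw [← hww, hdot, hSeq, Finset.sum_pair hii.symm]
      have hwT : w ∈ T := by
        refine (((sIn_zero hxT.singular).add_smul 1).congr rfl ?_ : SIn X (D.vec w) (D.vec w))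
        rw [zero_add, one_smul]
      convert T.smul_mem (w i / w i0) hwT using 1
      funext k
      rcases eq_or_ne k i0 with rfl | hk0
      · simp [unit, hii.symm]; field_simp
      rcases eq_or_ne k i with rfl | hki
      · simp [unit, hk0]; field_simp; linear_combination -e
      · have : w k = 0 := by
          by_contra h
          have := (hSmem k).2 h
          rw [hSeq] at this
          simp [hk0, hki] at this
        simp [unit, hk0, hki, this]
    by_cases hS4 : S.card = 3
    · obtain ⟨j0, hj0, hj00, hj0i⟩ : ∃ j ∈ S, j ≠ i0 ∧ j ≠ i := by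
        have hne : ((S.erase i0).erase i).Nonempty := by
          rw [← Finset.card_pos, Finset.card_erase_of_mem (Finset.mem_erase.2 ⟨hii, hi⟩),
            Finset.card_erase_of_mem hi0]
          omega
        obtain ⟨j, hj⟩ := hne
        simp only [Finset.mem_erase] at hj
        exact ⟨j, hj.2.2, hj.2.1, hj.1⟩
      have hSeq : S = {i0, j0, i} := (Finset.eq_of_subset_of_card_le
        (by simp [Finset.insert_subset_iff, hi0, hj0, hi])
        (by rw [hS4, Finset.card_insert_of_notMem (by simp [hj00.symm, hii.symm]),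
          Finset.card_pair hj0i])).symm
      obtain ⟨l, hl'⟩ : (Finset.univ \ ({i0, j0, i, i1} : Finset (Fin n))).Nonempty := by
        rw [← Finset.card_pos, Finset.card_univ_sdiff, Fintype.card_fin]
        have := Finset.card_le_four (a := i0) (b := j0) (c := i) (d := i1)
        omega
      simp only [Finset.mem_sdiff, Finset.mem_univ, Finset.mem_insert, Finset.mem_singleton, true_and, not_or] at hl'
      obtain ⟨hl0, hlj, hli, hl1⟩ := hl'
      have hl : w l = 0 := by
        by_contra h
        have := (hSmem l).2 h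
        rw [hSeq] at this
        simp [hl0, hlj, hli] at this
      set c := -w i0 / (w i * w i) with hc
      set y := (x + c • w) ∘ Equiv.swap j0 l ∘ Equiv.swap i1 i0 with hy
      have hyorb : D.Orb X y := (hline c).swap hX (hne1 i0 hi0).symm (Ne.symm hlj)
      have y1 : y i1 = c * w i0 := by
        simp [hy, hx, unit, Equiv.swap_apply_of_ne_of_ne hj00.symm (Ne.symm hl0), hne1 i0 hi0]
      have y0 : y i0 = 1 := by
        simp [hy, hx, unit, Equiv.swap_apply_of_ne_of_ne (hne1 j0 hj0).symm (Ne.symm hl1), hi1]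
      have yl : y l = c * w j0 := by
        simp [hy, hx, unit, Equiv.swap_apply_of_ne_of_ne hl1 hl0, hne1 j0 hj0]
      have yj : y j0 = 0 := by
        simp [hy, hx, unit, Equiv.swap_apply_of_ne_of_ne (hne1 j0 hj0) hj00, hl1, hl]
      have yi : y i = c * w i := by
        simp [hy, hx, unit, Equiv.swap_apply_of_ne_of_ne (hne1 i hi) hii,
          Equiv.swap_apply_of_ne_of_ne hj0i.symm (Ne.symm hli), hne1 i hi]
      have hyT : y ∈ T := by
        refine hrule (show x ∈ T from hxT) hyorb ?_ (by
          rw [hxdot, y1]; exact mul_ne_zero (div_ne_zero (neg_ne_zero.2 hw0') (mul_ne_zero hwi hwi)) hw0')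
        rw [hdot, hSeq, Finset.sum_insert (by simp [hj00.symm, hii.symm]), Finset.sum_pair hj0i, y0, yj, yi, hc]
        field_simp; ring
      convert T.smul_mem (w i) (T.sub_mem (T.sub_mem hyT (T.smul_mem (y i1) hxT)) (T.smul_mem (y l) (hoff l hl)))
        using 1
      funext k
      rcases eq_or_ne k i1 with rfl | hk1
      · simp [hx, unit, (hne1 i0 hi0).symm, (hne1 i hi).symm, Ne.symm hl1]
      rcases eq_or_ne k l with rfl | hkl
      · simp [hx, unit, hl0, hli, hk1]
      rcases eq_or_ne k i0 with rfl | hk0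
      · simp [hx, unit, hk1, hkl, y0, hii.symm]
      rcases eq_or_ne k i with rfl | hki
      · simp [hx, unit, hk1, hkl, hk0, yi, hc]; field_simp
      rcases eq_or_ne k j0 with rfl | hkj
      · simp [hx, unit, hk1, hkl, hk0, hki, yj]
      · have : w k = 0 := by
          by_contra h
          have := (hSmem k).2 h
          rw [hSeq] at this
          simp [hk0, hki, hkj] at this
        simp [hy, hx, unit, hk1, hkl, hk0, hki, Equiv.swap_apply_of_ne_of_ne hk1 hk0,
          Equiv.swap_apply_of_ne_of_ne hkj hkl, this]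
    · set O := S.erase i0 with hO
      have hO3 : 3 ≤ O.card := by rw [hO, Finset.card_erase_of_mem hi0]; omega
      have hiO : i ∈ O := Finset.mem_erase.2 ⟨hii, hi⟩
      have hOmem : ∀ {k}, k ∈ O → k ≠ i0 ∧ k ≠ i1 ∧ w k ≠ 0 := fun {k} hk => by
        simp only [hO, Finset.mem_erase] at hk
        exact ⟨hk.1, hne1 k hk.2, (hSmem k).1 hk.2⟩
      obtain ⟨q, hq, r, hr, hqr⟩ := Finset.one_lt_card.1 (show 1 < O.card by omega)
      set u := w ∘ Equiv.swap q r with hu
      have huO : ∀ k ∈ O, u k ≠ 0 := fun k hk => by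
        rw [hu, Function.comp_apply]
        rcases eq_or_ne k q with rfl | h1
        · rw [Equiv.swap_apply_left]; exact (hOmem hr).2.2
        rcases eq_or_ne k r with rfl | h3
        · rw [Equiv.swap_apply_right]; exact (hOmem hq).2.2
        · rw [Equiv.swap_apply_of_ne_of_ne h1 h3]; exact (hOmem hk).2.2
      obtain ⟨s, hs, hsa, hsb⟩ := exists_signed_ne D.two (O.erase i)
        (by rw [Finset.card_erase_of_mem hiO]; omega) (fun k => w k * u k)
        (fun k hk => mul_ne_zero (hOmem (Finset.mem_of_mem_erase hk)).2.2 (huO k (Finset.mem_of_mem_erase hk)))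
        (w i * u i)
      have hL : ∀ s ⊆ O, (∑ k ∈ O, if k ∈ s then -(w k * u k) else w k * u k) ≠ 0 →
          (fun k => if k = i0 then (∑ k ∈ O, if k ∈ s then -(w k * u k) else w k * u k)
            else if k ∈ O then -w i0 * (if k ∈ s then -u k else u k) else 0) ∈ T := by
        intro s hs hA0
        set A := ∑ k ∈ O, if k ∈ s then -(w k * u k) else w k * u k with hA
        set c := -w i0 / A with hc
        set y₀ := (x + c • w) ∘ Equiv.swap q r ∘ Equiv.swap i1 i0 with hy₀
        set y : Fin n → F := fun k => if k ∈ s then -y₀ k else y₀ k with hy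
        have hyorb : D.Orb X y := ((hline c).swap hX (hne1 i0 hi0).symm hqr).sign hX s
        have hs' : ∀ {k}, k ∉ O → k ∉ s := fun {k} hk h => hk (hs h)
        have hfix : ∀ {k}, k ∉ O → Equiv.swap q r k = k := fun {k} hk =>
          Equiv.swap_apply_of_ne_of_ne (fun e => hk (e ▸ hq)) (fun e => hk (e ▸ hr))
        have hi0O : i0 ∉ O := fun h => (hOmem h).1 rfl
        have hi1O : i1 ∉ O := fun h => (hOmem h).2.1 rfl
        have y1 : y i1 = c * w i0 := by
          rw [hy]; dsimp only
          rw [if_neg (hs' hi1O)]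
          simp [hy₀, hx, unit, hfix hi0O, hne1 i0 hi0]
        have y0 : y i0 = 1 := by
          rw [hy]; dsimp only
          rw [if_neg (hs' hi0O)]
          simp [hy₀, hx, unit, hfix hi1O, hi1]
        have yk : ∀ k ∈ O, y k = c * (if k ∈ s then -u k else u k) := fun k hk => by
          have hsw : Equiv.swap q r k ≠ i1 := fun e => by
            have := congrArg (Equiv.swap q r) e
            rw [Equiv.swap_apply_self, hfix hi1O] at this
            exact (hOmem hk).2.1 this
          have : y₀ k = c * u k := by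
            simp [hy₀, hx, hu, unit, Equiv.swap_apply_of_ne_of_ne (hOmem hk).2.1 (hOmem hk).1, hsw]
          rw [hy]; dsimp only
          split_ifs <;> rw [this] <;> ring
        have hyT : y ∈ T := by
          refine hrule (show x ∈ T from hxT) hyorb ?_
            (by rw [hxdot, y1]; exact mul_ne_zero (div_ne_zero (neg_ne_zero.2 hw0') hA0) hw0')
          rw [hdot, ← Finset.add_sum_erase _ _ hi0, y0, ← hO, Finset.sum_congr rfl (fun k hk =>
            show w k * y k = c * (if k ∈ s then -(w k * u k) else w k * u k) by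
              rw [yk k hk]; split_ifs <;> ring), ← Finset.mul_sum, ← hA, hc, div_mul_cancel₀ _ hA0]
          ring
        convert T.smul_mem A (T.sub_mem hyT (T.smul_mem (y i1) hxT)) using 1
        funext k
        rcases eq_or_ne k i1 with rfl | hk1
        · simp [hx, unit, (hne1 i0 hi0).symm, hi1O]
        rcases eq_or_ne k i0 with rfl | hk0
        · simp [hx, unit, hk1, y0]
        by_cases hk : k ∈ O
        · simp [hx, unit, hk1, hk0, hk, yk k hk, hc]
          field_simp
        · have hw' : w k = 0 := by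
            by_contra h
            exact hk (Finset.mem_erase.2 ⟨hk0, (hSmem k).2 h⟩)
          have hyk : y k = 0 := by
            simp [hx, hy, hy₀, unit, hk1, hs' hk, Equiv.swap_apply_of_ne_of_ne hk1 hk0, hfix hk, hw']
          simp [hx, unit, hk1, hk0, hk, y1, hyk]
      have his : i ∉ s := fun h => Finset.notMem_erase i O (hs h)
      have hsum : ∀ s' : Finset (Fin n), (∑ k ∈ O, if k ∈ s' then -(w k * u k) else w k * u k) =
          (if i ∈ s' then -(w i * u i) else w i * u i) +
            ∑ k ∈ O.erase i, if k ∈ s' then -(w k * u k) else w k * u k := fun s' =>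
        (Finset.add_sum_erase _ _ hiO).symm
      have hrest : (∑ k ∈ O.erase i, if k ∈ insert i s then -(w k * u k) else w k * u k) =
          ∑ k ∈ O.erase i, if k ∈ s then -(w k * u k) else w k * u k :=
        Finset.sum_congr rfl fun k hk => by
          by_cases h : k ∈ s <;> simp [h, Finset.ne_of_mem_erase hk]
      have hA1 : (∑ k ∈ O, if k ∈ s then -(w k * u k) else w k * u k) ≠ 0 := by
        rw [hsum s, if_neg his]; intro e; exact hsb (by linear_combination e)
      have hA2 : (∑ k ∈ O, if k ∈ insert i s then -(w k * u k) else w k * u k) ≠ 0 := by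
        rw [hsum, if_pos (Finset.mem_insert_self i s), hrest]; intro e; exact hsa (by linear_combination e)
      have h := T.sub_mem (hL s (hs.trans (Finset.erase_subset _ _)) hA1)
        (hL (insert i s) (Finset.insert_subset hiO (hs.trans (Finset.erase_subset _ _))) hA2)
      convert T.smul_mem (2 * u i)⁻¹ h using 1
      funext k
      have hui := huO i hiO
      have h2 := D.two
      rcases eq_or_ne k i0 with rfl | hk0
      · simp only [Pi.sub_apply, Pi.smul_apply, smul_eq_mul, if_pos, hsum s, hsum (insert i s), hrest,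
          if_neg his, if_pos (Finset.mem_insert_self i s)]
        simp [unit, hii.symm]
        field_simp; ring
      rcases eq_or_ne k i with rfl | hki
      · simp [unit, hk0, hiO, his]
        field_simp; ring
      · by_cases hk : k ∈ O
        · by_cases hks : k ∈ s <;> simp [unit, hk0, hki, hk, hks]
        · simp [unit, hk0, hki, hk]
  -- the centre is full
  have hfull : OrthMax.Full X (D.vec w) := by
    intro v hu hv
    obtain ⟨f, rfl⟩ := D.vec.surjective v
    rw [D.polar_vec] at hv
    have hfw : w ⬝ᵥ f = 0 := (mul_eq_zero.1 hv).resolve_left (mul_ne_zero D.two D.ha)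
    have hwi0 := (hSmem i0).1 hi0
    suffices hf : f ∈ T from (hf : SIn X (D.vec w) (D.vec f)).2.2
    have e : f = ∑ k, f k • (D.unit k - (w k / w i0) • D.unit i0) := by
      have hsumw : ∑ k, f k * (w k / w i0) = 0 := by
        rw [Finset.sum_congr rfl (fun k _ => show f k * (w k / w i0) = (w k * f k) / w i0 by ring),
          ← Finset.sum_div]
        rw [show ∑ k, w k * f k = w ⬝ᵥ f from rfl, hfw, zero_div]
      funext m
      simp [smul_sub, smul_smul, Finset.sum_sub_distrib, Finset.sum_apply, unit, Pi.single_apply]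
      rcases eq_or_ne m i0 with rfl | hm
      · simp [hsumw]
      · simp [hm]
    rw [e]
    refine T.sum_mem fun k _ => T.smul_mem _ ?_
    by_cases hk : w k = 0
    · rw [hk, zero_div, zero_smul, sub_zero]; exact hoff k hk
    · convert T.smul_mem (-(w i0)⁻¹) (hon k ((hSmem k).2 hk)) using 1
      rw [smul_sub, smul_smul, smul_smul, neg_mul, neg_mul, inv_mul_cancel₀ hwi0]
      module
  set g := negO Q * rO Q (D.b i0) with hg
  refine OrthMax.sieGroup_le_of_pair hX.hQ (by rw [Module.finrank_eq_card_basis D.b, Fintype.card_fin]; omega) hfull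
    (hfull.map (hX.negrO_mem i0)) hxT.singular (by rw [O.map_app]; exact hxT.singular) ?_
  rw [Subgroup.coe_mul, mul_app, D.rO_b, negO_app, ← map_neg, D.polar_vec]
  refine mul_ne_zero (mul_ne_zero D.two D.ha) ?_
  rw [hdot, ← Finset.add_sum_erase _ _ hi0, Finset.sum_congr rfl (fun k hk =>
    show w k * (-Function.update w i0 (-w i0)) k = -(w k * w k) by
      rw [Pi.neg_apply, Function.update_of_ne (Finset.ne_of_mem_erase hk)]; ring),
    Finset.sum_neg_distrib, Pi.neg_apply, Function.update_self, neg_neg]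
  have h := hdot w
  rw [hww, ← Finset.add_sum_erase _ _ hi0] at h
  intro e
  exact mul_ne_zero D.two (mul_ne_zero ((hSmem i0).1 hi0) ((hSmem i0).1 hi0)) (by linear_combination e - h)

end Frm

end Cfsg.Agent.H85.Frame
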