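import Cfsg.Agent.H85.Frame.Final
import Cfsg.Agent.Orthogonal.Frame

/-!
Stabilisers of orthogonal frames are maximal in Ω in odd dimension at least five over prime fields.
-/

set_option autoImplicit false

namespace Cfsg.Agent.H85.Frame

open QuadraticMap Module Cfsg.Agent.Orthogonal Cfsg.Agent.H98

variable {F : Type*} [Field F] [Fintype F] {ι : Type} [Fintype ι] [DecidableEq ι] {Q : QuadraticForm F (ι → F)}

theorem exists_frm {n : ℕ} (hn : 0 < n) (h2 : (2 : F) ≠ 0) {W : Fin n → Submodule F (ι → F)}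
    (hW : Cfsg.Geo.IsOrthogonalMDecomposition (⇑Q) 1 W) :
    ∃ D : Frm Q n, ∀ i, W i = Submodule.span F {D.b i} := by
  have hd := hW.decomp.decomp
  set i₀ : Fin n := ⟨0, hn⟩
  obtain ⟨b₀, hb₀, hb₀0⟩ := (Submodule.ne_bot_iff (W i₀)).1 fun h => by
    have := hd.finrank_eq i₀
    rw [h, finrank_bot] at this
    omega
  choose e he using fun i => hW.isometric i₀ i
  let v : Fin n → (ι → F) := fun i => (e i ⟨b₀, hb₀⟩ : W i)
  have hv0 : ∀ i, v i ≠ 0 := fun i h => hb₀0 (congrArg Subtype.val ((e i).injective (a₁ := ⟨b₀, hb₀⟩) (a₂ := 0)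
    (by rw [map_zero]; exact Subtype.ext h)))
  have hspan : ∀ i, W i = Submodule.span F {v i} := fun i =>
    (Submodule.eq_of_le_of_finrank_le ((Submodule.span_singleton_le_iff_mem _ _).2 (e i ⟨b₀, hb₀⟩).2)
      (by rw [finrank_span_singleton (hv0 i), hd.finrank_eq i])).symm
  have ha : Q b₀ ≠ 0 := by
    intro h
    obtain ⟨⟨x, hx, hxb⟩, -⟩ := hW.decomp.nondegenerate i₀ b₀ hb₀ hb₀0
    have hsp : W i₀ = Submodule.span F {b₀} :=
      (Submodule.eq_of_le_of_finrank_le ((Submodule.span_singleton_le_iff_mem _ _).2 hb₀)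
        (by rw [finrank_span_singleton hb₀0, hd.finrank_eq i₀])).symm
    rw [hsp, Submodule.mem_span_singleton] at hx
    obtain ⟨c, rfl⟩ := hx
    exact hxb (by rw [polar_smul_left', polar_self', h]; ring)
  have hli : LinearIndependent F v :=
    hd.indep.linearIndependent W (fun i => (e i ⟨b₀, hb₀⟩).2) hv0
  have htop : ⊤ ≤ Submodule.span F (Set.range v) := by
    rw [← hd.iSup_eq_top]
    exact iSup_le fun i => by
      rw [hspan i]; exact Submodule.span_mono (Set.singleton_subset_iff.2 ⟨i, rfl⟩)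
  refine ⟨⟨Basis.mk hli htop, Q b₀, ha, h2, fun i => by rw [Basis.mk_apply]; exact he i ⟨b₀, hb₀⟩,
    fun i j hij => ?_⟩, fun i => by rw [Basis.mk_apply]; exact hspan i⟩
  rw [Basis.mk_apply, Basis.mk_apply]
  exact hW.decomp.orthogonal i j hij _ (e i ⟨b₀, hb₀⟩).2 _ (e j ⟨b₀, hb₀⟩).2

theorem mem_stabilizer_iff_mon {n : ℕ} {W : Fin n → Submodule F (ι → F)} (D : Frm Q n)
    (hD : ∀ i, W i = Submodule.span F {D.b i}) (x : O Q) :
    H96.om Q x ∈ Cfsg.Geo.decompositionStabilizer W ↔ D.Mon x := by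
  have hlin : Matrix.toLin' (H96.om Q x : Matrix ι ι F) = ((x : (ι → F) ≃ₗ[F] (ι → F)) : (ι → F) →ₗ[F] (ι → F)) :=
    LinearMap.ext fun v => by rw [Matrix.toLin'_apply, H96.om_mulVec]; rfl
  have hb : ∀ i, Q (D.b i) ≠ 0 := fun i => by rw [D.val]; exact D.ha
  constructor
  · rintro ⟨σ, hσ⟩ i
    have h := hσ i
    rw [hlin, hD, hD, Submodule.map_span, Set.image_singleton] at h
    have hm : (x : (ι → F) ≃ₗ[F] (ι → F)) (D.b i) ∈ Submodule.span F {D.b (σ i)} := by
      rw [← h]; exact Submodule.mem_span_singleton_self _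
    obtain ⟨c, hc⟩ := Submodule.mem_span_singleton.1 hm
    refine ⟨σ i, ?_⟩
    have := O.map_app x (D.b i)
    rw [← hc, qmap_smul, D.val, D.val, mul_eq_right₀ D.ha, sq_eq_one_iff] at this
    rcases this with rfl | rfl
    · exact Or.inl (by rw [← hc, one_smul])
    · exact Or.inr (by rw [← hc, neg_one_smul])
  · intro hx
    choose j hj using hx
    have hinj : Function.Injective j := by
      intro i k h
      by_contra hne
      have h0 := D.orth i k hne
      rw [← O.polar_app x] at h0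
      rcases hj i with e | e <;> rcases hj k with e' | e' <;>
        simp [e, e', h, polar_neg_left, polar_neg_right, polar_self', D.val, D.two, D.ha] at h0
    refine ⟨Equiv.ofBijective j (Finite.injective_iff_bijective.1 hinj), fun i => ?_⟩
    rw [hlin, hD, hD, Submodule.map_span, Set.image_singleton, Equiv.ofBijective_apply, LinearEquiv.coe_coe]
    rcases hj i with e | e <;> rw [e]
    rw [← neg_one_smul F (D.b (j i)), Submodule.span_singleton_smul_eq (isUnit_one.neg)]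

/-- A criterion for maximality in Ω, for subgroups of Ω. -/
theorem isMaximalIn_omega' (hQ : Nondeg Q) (hn : 5 ≤ finrank F (ι → F)) (S : Subgroup (GL ι F))
    (hne : ∃ x ∈ commutator (O Q), H96.om Q x ∉ S)
    (hmain : ∀ X : Subgroup (O Q), (∀ x ∈ commutator (O Q), H96.om Q x ∈ S → x ∈ X) → X ≤ commutator (O Q) →
      (∃ x ∈ X, H96.om Q x ∉ S) → sieGroup Q ≤ X) :
    Cfsg.Geo.IsMaximalIn (Cfsg.Geo.omegaGL ⇑Q) (S ⊓ Cfsg.Geo.omegaGL ⇑Q) := by
  have hinj : ∀ y z : O Q, H96.om Q y = H96.om Q z → y = z := fun y z h =>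
    O.ext_app fun v => by rw [← H96.om_mulVec, ← H96.om_mulVec, h]
  refine ⟨lt_of_le_not_ge inf_le_right fun h => ?_, fun M hM hMG => ?_⟩
  · obtain ⟨x, hx, hxS⟩ := hne
    exact hxS (h ((H96.mem_omegaGL_iff Q _).2 ⟨x, hx, rfl⟩)).1
  by_cases hMS : M ≤ S
  · exact Or.inl (le_antisymm (le_inf hMS hMG) hM)
  refine Or.inr (le_antisymm hMG ?_)
  obtain ⟨g, hg, hgS⟩ := SetLike.not_le_iff_exists.1 hMS
  obtain ⟨x, hx, rfl⟩ := (H96.mem_omegaGL_iff Q g).1 (hMG hg)
  have hle := hmain (M.comap (H96.om Q))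
    (fun y hy hyS => hM ⟨hyS, (H96.mem_omegaGL_iff Q _).2 ⟨y, hy, rfl⟩⟩)
    (fun y hy => by
      obtain ⟨z, hz, hzy⟩ := (H96.mem_omegaGL_iff Q _).1 (hMG hy)
      rwa [← hinj z y hzy])
    ⟨x, hg, hgS⟩
  intro g hg
  obtain ⟨y, hy, rfl⟩ := (H96.mem_omegaGL_iff Q g).1 hg
  rw [← sieGroup_eq_commutator hQ hn] at hy
  exact hle hy

/-- Stabilisers of frames are maximal in Ω. -/
theorem isMaximalIn_frame (hQ : Nondeg Q) (h2 : (2 : F) ≠ 0) (hp : (Fintype.card F).Prime) {n : ℕ} (hn : 5 ≤ n)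
    (hodd : Odd n) (W : Fin n → Submodule F (ι → F)) (hW : Cfsg.Geo.IsOrthogonalMDecomposition (⇑Q) 1 W) :
    Cfsg.Geo.IsMaximalIn (Cfsg.Geo.omegaGL ⇑Q)
      (Cfsg.Geo.decompositionStabilizer W ⊓ Cfsg.Geo.omegaGL ⇑Q) := by
  classical
  obtain ⟨D, hD⟩ := exists_frm (by omega) h2 hW
  have hd : finrank F (ι → F) = n := by rw [Module.finrank_eq_card_basis D.b, Fintype.card_fin]
  refine isMaximalIn_omega' hQ (by omega) _ ?_ fun X hX hle hg => ?_
  · obtain ⟨x, y, hxy⟩ := exists_sq_add_sq (F := F) one_ne_zero one_ne_zero (-1 : F)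
    let p : Fin n → F := fun k => if k = ⟨0, by omega⟩ then 1 else if k = ⟨1, by omega⟩ then x
      else if k = ⟨2, by omega⟩ then y else 0
    have hpp : p ⬝ᵥ p = 0 := by
      rw [dotProduct, ← Finset.sum_subset (Finset.subset_univ
        ({⟨0, by omega⟩, ⟨1, by omega⟩, ⟨2, by omega⟩} : Finset (Fin n))) (fun k _ hk => ?_)]
      · rw [Finset.sum_insert (by simp [Fin.ext_iff]), Finset.sum_pair (by simp [Fin.ext_iff])]
        simp [p, Fin.ext_iff]
        linear_combination hxy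
      · simp only [Finset.mem_insert, Finset.mem_singleton, not_or] at hk
        simp [p, hk.1, hk.2.1, hk.2.2]
    set k : Fin n := ⟨3, by omega⟩ with hk
    have hpk : p k = 0 := by simp [p, hk, Fin.ext_iff]
    have hu : Q (D.vec p) = 0 := by rw [D.Q_vec, hpp, mul_zero]
    have hw : polar Q (D.vec p) (D.b k) = 0 := by rw [D.polar_vec_b, hpk, mul_zero]
    refine ⟨sie (D.vec p) (D.b k) hu hw, OrthMax.sie_mem_commutator hQ (by omega) hu hw, fun h => ?_⟩
    obtain ⟨j, hj⟩ := (mem_stabilizer_iff_mon D hD _).1 h k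
    have e : (sie (D.vec p) (D.b k) hu hw : (ι → F) ≃ₗ[F] (ι → F)) (D.b k) = D.vec (D.unit k + (2 * D.a) • p) := by
      rw [sie_app, hw, D.polar_b, if_pos rfl, map_add, map_smul, D.vec_unit]; simp
    rw [e, ← D.vec_unit j, ← map_neg, D.vec.injective.eq_iff, D.vec.injective.eq_iff] at hj
    have h2a : (2 * D.a : F) ≠ 0 := mul_ne_zero D.two D.ha
    have c0 : (k : ℕ) = 3 := rfl
    have hp0 : p ⟨0, by omega⟩ = 1 := by simp [p]
    have h0k : (⟨0, by omega⟩ : Fin n) ≠ k := by simp [hk, Fin.ext_iff]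
    rcases hj with hj | hj
    all_goals
      have e0 := congrFun hj ⟨0, by omega⟩
      have ek := congrFun hj k
      rcases eq_or_ne k j with rfl | hkj
      · simp only [Pi.add_apply, Pi.smul_apply, Pi.neg_apply, Frm.unit, Pi.single_eq_of_ne h0k, hp0, smul_eq_mul,
          mul_one, zero_add, neg_zero] at e0
        exact h2a e0
      · simp only [Pi.add_apply, Pi.smul_apply, Pi.neg_apply, Frm.unit, Pi.single_eq_of_ne hkj, hpk, smul_eq_mul,
          Pi.single_eq_same, mul_zero, add_zero, neg_zero] at ek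
        exact one_ne_zero ek
  · obtain ⟨g, hgX, hgS⟩ := hg
    exact Frm.Over.sieGroup_le (D := D)
      ⟨hQ, hn, hodd, hp, fun s hs hm => hX s hs ((mem_stabilizer_iff_mon D hD s).2 hm), hle⟩ hgX
      fun hm => hgS ((mem_stabilizer_iff_mon D hD g).2 hm)

end Cfsg.Agent.H85.Frame
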