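import Cfsg.Agent.H85.Frame.Support

/-!
Some frame image has support three.
-/

set_option autoImplicit false

namespace Cfsg.Agent.H85.Frame

open QuadraticMap Module Cfsg.Agent.Orthogonal Cfsg.Agent.H98

variable {F V : Type*} [Field F] [Fintype F] [DecidableEq F] [AddCommGroup V] [Module F V] [FiniteDimensional F V]
  {Q : QuadraticForm F V} {n : ℕ} {D : Frm Q n} {X : Subgroup (O Q)}

theorem distinct_four {α : Type*} [DecidableEq α] {a b c d : α} (h : ({a, b, c, d} : Finset α).card = 4) :
    a ≠ b ∧ a ≠ c ∧ a ≠ d ∧ b ≠ c ∧ b ≠ d ∧ c ≠ d := by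
  have key : ∀ x y z : α, ({a, b, c, d} : Finset α) ≠ {x, y, z} := fun x y z e => by
    rw [e] at h
    have := Finset.card_le_three (a := x) (b := y) (c := z)
    omega
  refine ⟨?_, ?_, ?_, ?_, ?_, ?_⟩ <;> rintro rfl
  exacts [key a c d (by ext; simp), key a b d (by ext; simp; tauto), key a b c (by ext; simp; tauto),
    key a b d (by ext; simp), key a b c (by ext; simp; tauto), key a b c (by ext; simp)]

namespace Frm

/-- Some frame image has support at least three. -/
theorem Over.exists_large (hX : D.Over X) {g : O Q} (hg : g ∈ X) (hgm : ¬ D.Mon g) :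
    ∃ f, D.Orb X f ∧ 3 ≤ (supp f).card := by
  have hn := hX.five
  by_contra hcon
  push Not at hcon
  obtain ⟨i, hi⟩ := not_forall.1 hgm
  push Not at hi
  let U : Fin n → Fin n → F := fun k => D.vec.symm ((g : V ≃ₗ[F] V) (D.b k))
  have hU : ∀ k, (g : V ≃ₗ[F] V) (D.b k) = D.vec (U k) := fun k => (D.vec.apply_symm_apply _).symm
  have hUo : ∀ k, D.Orb X (U k) := fun k => (orb_unit k).map hg (by rw [D.vec_unit, hU])
  have hdot : ∀ k l, U k ⬝ᵥ U l = if k = l then 1 else 0 := fun k l => by
    refine mul_left_cancel₀ (mul_ne_zero D.two D.ha) ?_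
    rw [← D.polar_vec, ← hU, ← hU, O.polar_app, D.polar_b]
    split_ifs <;> simp
  have hfi : ¬ (supp (U i)).card ≤ 1 := by
    intro h
    obtain ⟨j, hj⟩ : (supp (U i)).Nonempty := by
      by_contra h0
      rw [Finset.not_nonempty_iff_eq_empty] at h0
      have : U i = 0 := funext fun m => eq_zero_of_notMem (by simp [h0])
      have := hdot i i
      simp [‹U i = 0›] at this
    have e : U i = U i j • D.unit j := by
      funext m
      rcases eq_or_ne m j with rfl | hm
      · simp [unit]
      · have : U i m = 0 := eq_zero_of_notMem fun hm' => hm (Finset.card_le_one.1 h m hm' j hj)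
        simp [unit, hm, this]
    have h1 := hdot i i
    rw [if_pos rfl, e] at h1
    rw [smul_dotProduct, dotProduct_smul, unit, dotProduct_single, Pi.single_eq_same, smul_eq_mul, smul_eq_mul,
      mul_one, mul_one] at h1
    have h2 := hU i
    rw [e, map_smul, D.vec_unit] at h2
    rcases mul_self_eq_one_iff.1 h1 with h3 | h3 <;> rw [h3] at h2
    · rw [one_smul] at h2; exact (hi j).1 h2
    · rw [neg_one_smul] at h2; exact (hi j).2 h2
  have hc2 : (supp (U i)).card = 2 := by have := hcon _ (hUo i); omega
  obtain ⟨a, b, hab, hS⟩ := Finset.card_eq_two.1 hc2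
  have hfa : U i a ≠ 0 := mem_supp.1 (by simp [hS])
  have hfb : U i b ≠ 0 := mem_supp.1 (by simp [hS])
  have hsum : ∀ f : Fin n → F, U i ⬝ᵥ f = U i a * f a + U i b * f b := fun f => by
    have : ∀ m, U i m * f m ≠ 0 → m ∈ ({a, b} : Finset (Fin n)) := fun m hm => by
      rw [← hS]; exact mem_supp.2 (left_ne_zero_of_mul hm)
    rw [dotProduct, ← Finset.sum_subset (Finset.subset_univ ({a, b} : Finset (Fin n)))
      (fun m _ hm => by_contra fun h => hm (this m h)), Finset.sum_pair hab]
  have hin : ∀ k, k ≠ i → ∀ m, m ≠ a → m ≠ b → U k m = 0 := by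
    intro k hki m hma hmb
    by_contra hm
    have horth := hdot i k
    rw [if_neg (Ne.symm hki), hsum] at horth
    set y := U i a • U i + U i b • U k with hy
    have hyo : D.Orb X y := (hX.exists_two (hUo i) hS hab (Ne.symm hki)).map hg (by
      simp only [hy, map_add, map_smul, D.vec_unit, hU])
    have hym : y m ≠ 0 := by
      simp [hy, eq_zero_of_notMem (show m ∉ supp (U i) by simp [hS, hma, hmb]), hm, hfb]
    have hk2 := hcon _ (hUo k)
    have hy2 := hcon _ hyo
    have : U k a = 0 ∨ U k b = 0 := by
      by_contra h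
      push Not at h
      have : ({a, b, m} : Finset (Fin n)) ⊆ supp (U k) := by
        simp [Finset.insert_subset_iff, mem_supp, h.1, h.2, hm]
      have := Finset.card_le_card this
      rw [Finset.card_eq_three.2 ⟨a, b, m, hab, hma.symm, hmb.symm, rfl⟩] at this
      omega
    have h0 : U k a = 0 ∧ U k b = 0 := by
      rcases this with h | h <;> simp only [h, mul_zero, zero_add, add_zero] at horth
      · exact ⟨h, (mul_eq_zero.1 horth).resolve_left hfb⟩
      · exact ⟨(mul_eq_zero.1 horth).resolve_left hfa, h⟩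
    have hya : y a ≠ 0 := by simp [hy, h0.1, hfa]
    have hyb : y b ≠ 0 := by simp [hy, h0.2, hfa, hfb]
    have : ({a, b, m} : Finset (Fin n)) ⊆ supp y := by
      simp [Finset.insert_subset_iff, mem_supp, hym, hya, hyb]
    have := Finset.card_le_card this
    rw [Finset.card_eq_three.2 ⟨a, b, m, hab, hma.symm, hmb.symm, rfl⟩] at this
    omega
  obtain ⟨k, hk, l, hl, hkl⟩ := Finset.one_lt_card.1 (show 1 < (Finset.univ.erase i).card by
    rw [Finset.card_erase_of_mem (Finset.mem_univ i), Finset.card_univ, Fintype.card_fin]; omega)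
  replace hk := Finset.ne_of_mem_erase hk
  replace hl := Finset.ne_of_mem_erase hl
  have hdot2 : ∀ k, k ≠ i → ∀ f : Fin n → F, U k ⬝ᵥ f = U k a * f a + U k b * f b := fun k hk f => by
    rw [dotProduct, ← Finset.sum_subset (Finset.subset_univ ({a, b} : Finset (Fin n))) (fun m _ hm => ?_),
      Finset.sum_pair hab]
    simp only [Finset.mem_insert, Finset.mem_singleton, not_or] at hm
    rw [hin k hk m hm.1 hm.2, zero_mul]
  have e1 := hdot i k
  have e2 := hdot i l
  have e3 := hdot k l
  have e4 := hdot k k
  have e5 := hdot l l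
  rw [if_neg (Ne.symm hk), hsum] at e1
  rw [if_neg (Ne.symm hl), hsum] at e2
  rw [if_neg hkl, hdot2 k hk] at e3
  rw [if_pos rfl, hdot2 k hk] at e4
  rw [if_pos rfl, hdot2 l hl] at e5
  have c1 : U k a * U l b - U k b * U l a = 0 := by
    refine (mul_eq_zero.1 (show U i a * (U k a * U l b - U k b * U l a) = 0 from ?_)).resolve_left hfa
    linear_combination U l b * e1 - U k b * e2
  exact one_ne_zero (show (1 : F) = 0 by
    linear_combination -(U l a * U l a + U l b * U l b) * e4 - e5 + (U k a * U l a + U k b * U l b) * e3 +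
      (U k a * U l b - U k b * U l a) * c1)

/-- A pattern of three equal squares. -/
theorem Over.no_pattern (hX : D.Over X) (hnt : hX.NT) (h3 : ∀ f, D.Orb X f → (supp f).card ≠ 3)
    {v : Fin n → F} (hv : D.Orb X v) {a b c d : Fin n} (hS : supp v = {a, b, c, d}) (h4 : (supp v).card = 4)
    (hab : v a * v a = v b * v b) (hac : v a * v a = v c * v c) (h2C : 2 * (v a * v a) ≠ 1) : False := by
  have hn := hX.five
  obtain ⟨hab', hac', had, hbc, hbd, hcd⟩ := distinct_four (hS ▸ h4)
  -- make two of the entries equal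
  wlog hbc' : v b = v c generalizing v
  · have hvbc : v b = -v c := (mul_self_eq_mul_self_iff.1 (hab.symm.trans hac)).resolve_left hbc'
    have hb0 : v b ≠ 0 := mem_supp.1 (by simp [hS])
    have hc0 : v c ≠ 0 := mem_supp.1 (by simp [hS])
    have he : supp (Function.update v c (-v c)) = supp v := by
      ext m
      rcases eq_or_ne m c with rfl | h
      · simp [mem_supp, hc0]
      · simp [mem_supp, h]
    refine this (v := Function.update v c (-v c)) (hv.flip hX c) (he.trans hS) (by rw [he, h4]) ?_ ?_ ?_ (by simp [Function.update_of_ne hbc, hvbc])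
    · simpa [Function.update_of_ne hac', Function.update_of_ne hbc] using hab
    · simpa [Function.update_of_ne hac'] using hac
    · simpa [Function.update_of_ne hac'] using h2C
  obtain ⟨e, he⟩ : (Finset.univ \ supp v).Nonempty := by
    rw [← Finset.card_pos, Finset.card_univ_sdiff, Fintype.card_fin]; omega
  have heS := (Finset.mem_sdiff.1 he).2
  have hve := eq_zero_of_notMem heS
  simp only [hS, Finset.mem_insert, Finset.mem_singleton, not_or] at heS
  obtain ⟨hea, heb, hec, hed⟩ := heS
  have hva : v a ≠ 0 := mem_supp.1 (by simp [hS])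
  set C := v a * v a with hC
  set w := v ∘ Equiv.swap a e with hw
  have hwo : D.Orb X w := hv.swap1 hX hbc hbc' (Ne.symm hea)
  have hvw : w ⬝ᵥ v = 1 - C := by
    rw [← hv.norm, hC]
    simp only [dotProduct]
    rw [← Finset.add_sum_erase _ _ (Finset.mem_univ a), ← Finset.add_sum_erase _ (fun m => v m * v m) (Finset.mem_univ a)]
    have : ∀ m ∈ Finset.univ.erase a, w m * v m = v m * v m := fun m hm => by
      rcases eq_or_ne m e with rfl | hme
      · simp [hve]
      · simp [hw, Equiv.swap_apply_of_ne_of_ne (Finset.ne_of_mem_erase hm) hme]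
    rw [Finset.sum_congr rfl this]
    simp [hw, hve]
  set u := v - (2 * (w ⬝ᵥ v)) • w with hu
  have huo : D.Orb X u := Orb.refl hX hwo hv
  have hC1 : C ≠ 1 := fun h => hab' (hX.supp_sq_one hnt hv (k := a) (l := b) h (mem_supp.1 (by simp [hS]))).symm
  have hC0 : C ≠ 0 := mul_ne_zero hva hva
  have hwv : u = v - (2 * (1 - C)) • w := by rw [hu, hvw]
  have ua : u a = v a := by simp [hwv, hw, hve]
  have ue : u e = -(2 * (1 - C)) * v a := by simp [hwv, hw, hve]
  have urest : ∀ m, m ≠ a → m ≠ e → u m = (2 * C - 1) * v m := fun m h1 h2 => by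
    simp [hwv, hw, Equiv.swap_apply_of_ne_of_ne h1 h2]; ring
  have h2C' : 2 * C - 1 ≠ 0 := sub_ne_zero.2 h2C
  have hSu : supp u = insert e (supp v) := by
    ext m
    rcases eq_or_ne m a with rfl | hma
    · simp [mem_supp, ua, hva]
    rcases eq_or_ne m e with rfl | hme
    · simp [mem_supp, ue, hva, sub_ne_zero.2 (Ne.symm hC1), D.two]
    · simp [mem_supp, urest m hma hme, hme, h2C']
  have hcu : (supp u).card = 5 := by
    rw [hSu, Finset.card_insert_of_notMem (Finset.mem_sdiff.1 he).2, h4]
  have := (hX.lemmaZ hnt h3 huo (by omega) (i := a) (j := b) (fun f hf hf' => by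
      have := h3 f hf; omega) (by rw [ua]; exact hva)
    (by rw [urest b hab'.symm (Ne.symm heb)]; exact mul_ne_zero h2C' (mem_supp.1 (by simp [hS]))) (by
      rw [ua, urest b hab'.symm (Ne.symm heb)]
      intro h
      have : 4 * (C * C) * (1 - C) = 0 := by linear_combination h + (2 * C - 1) ^ 2 * (-hab)
      simp [hC0, sub_ne_zero.2 (Ne.symm hC1), show (4 : F) ≠ 0 by
        rw [show (4 : F) = 2 * 2 by norm_num]; exact mul_ne_zero D.two D.two] at this)).1
  omega

/-- A group over the frame stabiliser without tangent frame images has one of support three. -/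
theorem Over.exists_three (hX : D.Over X) (hnt : hX.NT) {g : O Q} (hg : g ∈ X) (hgm : ¬ D.Mon g) :
    ∃ f, D.Orb X f ∧ (supp f).card = 3 := by
  classical
  by_contra hcon
  push Not at hcon
  have hn := hX.five
  obtain ⟨f₀, hf₀, hf₀'⟩ := hX.exists_large hg hgm
  have hex : ∃ s, ∃ f, D.Orb X f ∧ 3 ≤ (supp f).card ∧ (supp f).card = s := ⟨_, f₀, hf₀, hf₀', rfl⟩
  obtain ⟨v, hv, hv3, hvs⟩ := Nat.find_spec hex
  have hmin : ∀ f, D.Orb X f → 3 ≤ (supp f).card → (supp v).card ≤ (supp f).card :=
    fun f hf hf' => hvs ▸ Nat.find_min' hex ⟨f, hf, hf', rfl⟩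
  have h4 : 4 ≤ (supp v).card := by have := hcon v hv; omega
  have hlow : ∀ u : Fin n → F, (supp u).card = (supp v).card → ∀ f, D.Orb X f → 3 ≤ (supp f).card →
      (supp u).card < (supp f).card + 2 := fun u hu f hf hf' => by have := hmin f hf hf'; omega
  obtain ⟨i, hi⟩ : (supp v).Nonempty := Finset.card_pos.1 (by omega)
  have hvi := mem_supp.1 hi
  rcases Nat.lt_or_ge 4 (supp v).card with h5 | h4'
  · -- all squares equal
    have heq : ∀ m ∈ supp v, v m * v m = v i * v i := fun m hm => by
      by_contra h
      have := (hX.lemmaZ hnt hcon hv h4 (hlow v rfl) (mem_supp.1 hm) hvi h).1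
      omega
    set C := v i * v i with hC
    set s := (supp v).card with hs
    have hsC : (s : F) * C = 1 := by
      rw [← hv.norm, dotProduct, ← Finset.sum_subset (Finset.subset_univ (supp v))
        (fun m _ hm => by rw [eq_zero_of_notMem hm, mul_zero]), Finset.sum_congr rfl heq, Finset.sum_const, nsmul_eq_mul]
    have : CharP F (Fintype.card F) := charP_of_card_eq_prime (p := Fintype.card F) rfl (hp := ⟨hX.prime⟩)
    rcases Nat.lt_or_ge s (Fintype.card F) with hp | hp
    · have hne : ∀ k, 0 < k → k < Fintype.card F → (k : F) ≠ 0 := fun k h1 h2 e =>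
        absurd (Nat.le_of_dvd h1 ((CharP.cast_eq_zero_iff F (Fintype.card F) k).1 e)) (by omega)
      have h2ne := hne (s - 2) (by omega) (by omega)
      have h4ne := hne (s - 4) (by omega) (by omega)
      rw [Nat.cast_sub (by omega)] at h2ne h4ne
      push_cast at h2ne h4ne
      have hA : 1 - 2 * C ≠ 0 := fun h => h2ne (by linear_combination (s : F) * h + 2 * hsC)
      have hB : 1 - 4 * C ≠ 0 := fun h => h4ne (by linear_combination (s : F) * h + 4 * hsC)
      obtain ⟨j, hj, hji⟩ := Finset.exists_mem_ne (show 1 < (supp v).card by omega) i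
      set u := D.unit i - (2 * (v ⬝ᵥ D.unit i)) • v with hu
      have hdot : v ⬝ᵥ D.unit i = v i := by simp [unit]
      have ui : u i = 1 - 2 * C := by simp [hu, hdot, unit, hC]; ring
      have urest : ∀ m, m ≠ i → u m = -(2 * v i) * v m := fun m hm => by simp [hu, hdot, unit, hm]
      have hSu : supp u = supp v := by
        ext m
        rcases eq_or_ne m i with rfl | hm
        · simp [mem_supp, ui, hA, hvi]
        · simp [mem_supp, urest m hm, hvi, D.two]
      have := (hX.lemmaZ hnt hcon (Orb.refl hX hv (orb_unit i)) (by rw [← hu, hSu]; omega)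
        (by rw [← hu]; exact hlow u (by rw [hSu])) (i := i) (j := j) (by rw [← hu, ui]; exact hA)
        (by rw [← hu, urest j hji]; simp [hvi, D.two, mem_supp.1 hj]) (by
          rw [← hu, ui, urest j hji]
          intro h
          exact hB (by linear_combination h + 4 * C * (heq j hj)))).1
      rw [← hu, hSu] at this
      omega
    · obtain ⟨T, hT, hTc⟩ := Finset.exists_subset_card_eq hp
      have hT0 : T.Nonempty := Finset.card_pos.1 (by rw [hTc]; exact hX.prime.pos)
      have hdot : v ⬝ᵥ (fun k => if k ∈ T then -v k else v k) = 1 := by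
        rw [← hv.norm]
        have e : ∀ k, v k * (if k ∈ T then -v k else v k) = v k * v k - (if k ∈ T then 2 * C else 0) := fun k => by
          split_ifs with h
          · linear_combination -2 * heq k (hT h)
          · ring
        simp only [dotProduct, e, Finset.sum_sub_distrib, Finset.sum_ite_mem, Finset.univ_inter, Finset.sum_const,
          nsmul_eq_mul, hTc]
        rw [(CharP.cast_eq_zero_iff F (Fintype.card F) _).2 dvd_rfl, zero_mul, sub_zero]
      obtain ⟨t, ht⟩ := hT0
      have h := congrFun (hnt v _ hv (hv.sign hX T) hdot) t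
      simp only [ht, if_true] at h
      exact mul_ne_zero D.two (mem_supp.1 (hT ht)) (by linear_combination h)
  · have h4 : (supp v).card = 4 := by omega
    obtain ⟨a, b, c, d, hab, hac, had, hbc, hbd, hcd, hS⟩ := Finset.card_eq_four.1 h4
    have hne0 : ∀ m ∈ ({a, b, c, d} : Finset (Fin n)), v m ≠ 0 := fun m hm => mem_supp.1 (hS ▸ hm)
    have hsplit : ∀ p q r s' : Fin n, ({p, q, r, s'} : Finset (Fin n)) = {a, b, c, d} → p ≠ r → p ≠ s' → q ≠ r →
        q ≠ s' → v p * v p = v q * v q ∨ v r * v r = v s' * v s' := by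
      intro p q r s' e h1 h2 h3' h4'
      by_contra h
      push Not at h
      exact h.2 ((hX.lemmaZ hnt hcon hv (by omega) (hlow v rfl) (hne0 p (e ▸ by simp)) (hne0 q (e ▸ by simp)) h.1).2
        r s' (by rw [hS, ← e]; simp) (by rw [hS, ← e]; simp) h1.symm h3'.symm h2.symm h4'.symm)
    have h1 := hsplit a b c d rfl hac had hbc hbd
    have h2 := hsplit a c b d (by ext; simp; tauto) hab had hbc.symm hcd
    -- three of the squares are equal
    obtain ⟨a', b', c', d', hS', e1, e2⟩ : ∃ a' b' c' d', supp v = {a', b', c', d'} ∧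
        v a' * v a' = v b' * v b' ∧ v a' * v a' = v c' * v c' := by
      rcases h1 with h1 | h1 <;> rcases h2 with h2 | h2
      · exact ⟨a, b, c, d, hS, h1, h2⟩
      · exact ⟨b, a, d, c, by rw [hS]; ext; simp; tauto, h1.symm, h2⟩
      · exact ⟨c, a, d, b, by rw [hS]; ext; simp; tauto, h2.symm, h1⟩
      · exact ⟨d, b, c, a, by rw [hS]; ext; simp; tauto, h2.symm, h1.symm⟩
    by_cases h2C : 2 * (v a' * v a') = 1
    swap
    · exact hX.no_pattern hnt hcon hv hS' h4 e1 e2 h2C
    obtain ⟨hab', hac', had', hbc', hbd', hcd'⟩ := distinct_four (hS' ▸ h4)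
    have hsum : v a' * v a' + (v b' * v b' + (v c' * v c' + v d' * v d')) = 1 := by
      rw [← hv.norm, dotProduct, ← Finset.sum_subset (Finset.subset_univ (supp v))
        (fun m _ hm => by rw [eq_zero_of_notMem hm, mul_zero]), hS', Finset.sum_insert (by simp [hab', hac', had']),
        Finset.sum_insert (by simp [hbc', hbd']), Finset.sum_pair hcd']
    set C := v a' * v a' with hC
    have hD : 2 * (v d' * v d') = -1 := by linear_combination 2 * hsum + 2 * e1 + 2 * e2 - 3 * h2C
    set u := D.unit d' - (2 * (v ⬝ᵥ D.unit d')) • v with hu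
    have hdot : v ⬝ᵥ D.unit d' = v d' := by simp [unit]
    have hvd : v d' ≠ 0 := mem_supp.1 (by simp [hS'])
    have ud : u d' = 2 := by
      simp [hu, hdot, unit]
      linear_combination -hD
    have urest : ∀ m, m ≠ d' → u m = -(2 * v d') * v m := fun m hm => by simp [hu, hdot, unit, hm]
    have hSu : supp u = supp v := by
      ext m
      rcases eq_or_ne m d' with rfl | hm
      · simp [mem_supp, ud, hvd, D.two]
      · simp [mem_supp, urest m hm, hvd, D.two]
    refine hX.no_pattern hnt hcon (Orb.refl hX hv (orb_unit d')) (a := a') (b := b') (c := c') (d := d')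
      (by rw [← hu, hSu, hS']) (by rw [← hu, hSu, h4]) ?_ ?_ ?_
    · rw [← hu, urest a' had', urest b' hbd']; linear_combination (4 * (v d' * v d')) * e1
    · rw [← hu, urest a' had', urest c' hcd']; linear_combination (4 * (v d' * v d')) * e2
    · rw [← hu, urest a' had']
      intro h
      have h30 : (3 : F) = 0 := by linear_combination -h + 2 * (2 * C) * hD - 2 * h2C
      have hd1 : v d' * v d' = 1 := by linear_combination (-1 : F) * hD + (v d' * v d') * h30
      exact had' (hX.supp_sq_one hnt hv hd1 (mem_supp.1 (by simp [hS']) : v a' ≠ 0))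

end Frm

end Cfsg.Agent.H85.Frame
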