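import Cfsg.Agent.H85.Frame.Trio

/-!
The rotation group induced on three frame vectors.
-/

set_option autoImplicit false

namespace Cfsg.Agent.H85.Frame

open QuadraticMap Module Cfsg.Agent.Orthogonal Cfsg.Agent.H98
open scoped Matrix

variable {F V : Type*} [Field F] [Fintype F] [AddCommGroup V] [Module F V] [FiniteDimensional F V]
  {Q : QuadraticForm F V} {n : ℕ}

namespace Frm

variable (D : Frm Q n)

theorem mon_one : D.Mon 1 := fun i => ⟨i, Or.inl rfl⟩

theorem mon_pow {g : O Q} (hg : D.Mon g) : ∀ m : ℕ, D.Mon (g ^ m)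
  | 0 => by rw [pow_zero]; exact D.mon_one
  | m + 1 => by rw [pow_succ]; exact D.mon_mul (mon_pow hg m) hg

variable (T : Trio n) {X : Subgroup (O Q)}

theorem Inner.one : D.Inner T 1 := fun _ _ => rfl

theorem Inner.mul {g h : O Q} (hg : D.Inner T g) (hh : D.Inner T h) : D.Inner T (g * h) := fun k hk => by
  rw [Subgroup.coe_mul, mul_app, hh k hk, hg k hk]

theorem Inner.pow {g : O Q} (hg : D.Inner T g) : ∀ m : ℕ, D.Inner T (g ^ m)
  | 0 => by rw [pow_zero]; exact Inner.one D T
  | m + 1 => by rw [pow_succ]; exact (Inner.pow hg m).mul D T hg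

theorem Outer.one : D.Outer T 1 := ⟨D.mon_one, fun _ _ _ => rfl⟩

theorem Outer.mul {g h : O Q} (hg : D.Outer T g) (hh : D.Outer T h) : D.Outer T (g * h) :=
  ⟨D.mon_mul hg.1 hh.1, fun k h1 h2 => by rw [Subgroup.coe_mul, mul_app, hh.2 k h1 h2, hg.2 k h1 h2]⟩

/-- The rotations of the three-space that X induces, up to signed permutations of two further vectors. -/
def Over.rot (hX : D.Over X) : Subgroup (O Q) where
  carrier := {h | D.Inner T h ∧ detSign Q hX.hQ D.two h = 1 ∧ ∃ s, D.Outer T s ∧ h * s ∈ X}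
  one_mem' := ⟨Inner.one D T, map_one _, 1, Outer.one D T, by rw [mul_one]; exact X.one_mem⟩
  mul_mem' := by
    rintro g h ⟨hg, dg, s, hs, hgs⟩ ⟨hh, dh, t, ht, hht⟩
    refine ⟨hg.mul D T hh, by rw [map_mul, dg, dh, mul_one], s * t, hs.mul D T ht, ?_⟩
    rw [mul_assoc, ← mul_assoc h, D.outer_commute T hh hs, mul_assoc, ← mul_assoc g]
    exact X.mul_mem hgs hht
  inv_mem' := by
    rintro g ⟨hg, dg, s, hs, hgs⟩
    have hs' : D.Outer T s⁻¹ := by
      rw [inv_eq_of_mul_eq_one_right (show s * s ^ 3 = 1 by rw [← pow_succ', hs.pow_four])]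
      exact (hs.mul D T (hs.mul D T hs) : D.Outer T (s * (s * s))) |> fun h => by rwa [pow_succ, pow_two, mul_assoc]
    have hg' : D.Inner T g⁻¹ := fun k hk => by
      conv_lhs => rw [← hg k hk, ← mul_app, ← Subgroup.coe_mul, inv_mul_cancel]
      rfl
    refine ⟨hg', by rw [map_inv, dg, inv_one], s⁻¹, hs', ?_⟩
    rw [D.outer_commute T hg' hs', ← _root_.mul_inv_rev]
    exact X.inv_mem hgs

variable {D T}

/-- The action on coordinates. -/
noncomputable def act (h : O Q) (y : Fin 3 → F) : Fin 3 → F := D.crd T ((h : V ≃ₗ[F] V) (D.emb T y))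

theorem Over.emb_act (hX : D.Over X) {h : O Q} (hh : h ∈ hX.rot D T) (y : Fin 3 → F) :
    D.emb T (act (D := D) (T := T) h y) = (h : V ≃ₗ[F] V) (D.emb T y) := hh.1.emb_mem D T y

theorem act_smul (h : O Q) (c : F) (y : Fin 3 → F) :
    act (D := D) (T := T) h (c • y) = c • act (D := D) (T := T) h y := by simp [act]

theorem act_add (h : O Q) (x y : Fin 3 → F) :
    act (D := D) (T := T) h (x + y) = act (D := D) (T := T) h x + act (D := D) (T := T) h y := by simp [act]

theorem act_one (y : Fin 3 → F) : act (D := D) (T := T) 1 y = y := D.crd_emb T y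

theorem Over.act_mul (hX : D.Over X) {g h : O Q} (hh : h ∈ hX.rot D T) (y : Fin 3 → F) :
    act (D := D) (T := T) (g * h) y = act (D := D) (T := T) g (act (D := D) (T := T) h y) := by
  rw [act, act, Subgroup.coe_mul, mul_app, ← hX.emb_act hh]

theorem Over.act_dot (hX : D.Over X) {h : O Q} (hh : h ∈ hX.rot D T) (x y : Fin 3 → F) :
    act (D := D) (T := T) h x ⬝ᵥ act (D := D) (T := T) h y = x ⬝ᵥ y := by
  refine mul_left_cancel₀ (mul_ne_zero D.two D.ha) ?_
  rw [← D.polar_emb T, ← D.polar_emb T, hX.emb_act hh, hX.emb_act hh, O.polar_app]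

/-- A rotation fixing two independent lines of the three-space is trivial. -/
theorem Over.rot_eq_one (hX : D.Over X) {h : O Q} (hh : h ∈ hX.rot D T) {x y : Fin 3 → F}
    (hx : act (D := D) (T := T) h x = x) (hy : act (D := D) (T := T) h y = y)
    (hxy : (x ⬝ᵥ x) * (y ⬝ᵥ y) - (x ⬝ᵥ y) * (x ⬝ᵥ y) ≠ 0) : h = 1 := by
  set z := cross x y with hz
  set z' := act (D := D) (T := T) h z with hz'
  have hzz : z ⬝ᵥ z ≠ 0 := by rw [hz, cross_self]; exact hxy
  have e1 : z' ⬝ᵥ x = 0 := by
    conv_lhs => rw [← hx]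
    rw [hX.act_dot hh, dotProduct_comm, cross_left]
  have e2 : z' ⬝ᵥ y = 0 := by
    conv_lhs => rw [← hy]
    rw [hX.act_dot hh, dotProduct_comm, cross_right]
  have e := cross_expand x y z'
  rw [e1, e2, mul_zero, mul_zero, mul_zero, sub_zero, zero_smul, zero_smul, zero_add, zero_add, ← hz,
    ← cross_self, ← hz] at e
  set c := (z' ⬝ᵥ z) / (z ⬝ᵥ z) with hc
  have hz'c : z' = c • z := by
    have := congrArg ((z ⬝ᵥ z)⁻¹ • ·) e
    simp only [smul_smul, inv_mul_cancel₀ hzz, one_smul] at this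
    rw [this, hc, div_eq_inv_mul]
  have hgen : ∀ v, ∃ α β γ : F, v = α • x + β • y + γ • z := fun v => by
    have e := congrArg (((z ⬝ᵥ z))⁻¹ • ·) (cross_expand x y v)
    simp only [← cross_self, ← hz, smul_smul, inv_mul_cancel₀ hzz, one_smul, smul_add] at e
    exact ⟨_, _, _, e⟩
  have hembA : ∀ v, D.emb T (act (D := D) (T := T) h v) = (h : V ≃ₗ[F] V) (D.emb T v) := hX.emb_act hh
  have hcc : c * c = 1 := by
    have := hX.act_dot hh z z
    rw [← hz', hz'c, smul_dotProduct, dotProduct_smul, smul_eq_mul, smul_eq_mul, ← mul_assoc] at this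
    exact (mul_eq_right₀ hzz).1 this
  have hon : ∀ k : Fin n, (∀ i, T.ι i ≠ k) → (h : V ≃ₗ[F] V) (D.b k) = D.b k := hh.1
  rcases mul_self_eq_one_iff.1 hcc with h1 | h1
  · refine Subtype.ext (LinearEquiv.toLinearMap_injective (D.b.ext fun k => ?_))
    by_cases hk : ∀ i, T.ι i ≠ k
    · exact hon k hk
    · push Not at hk
      obtain ⟨i, rfl⟩ := hk
      obtain ⟨α, β, γ, e⟩ := hgen (Pi.single i 1)
      show (h : V ≃ₗ[F] V) (D.b (T.ι i)) = D.b (T.ι i)
      rw [← D.emb_single T i, ← hembA, e, act_add, act_add, act_smul, act_smul, act_smul, hx, hy, ← hz', hz'c, h1,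
        one_smul]
  · exfalso
    have hQz : Q (D.emb T z) ≠ 0 := by rw [D.Q_emb]; exact mul_ne_zero D.ha hzz
    have e : h = rO Q (D.emb T z) := by
      refine Subtype.ext (LinearEquiv.toLinearMap_injective (D.b.ext fun k => ?_))
      by_cases hk : ∀ i, T.ι i ≠ k
      · show (h : V ≃ₗ[F] V) (D.b k) = (rO Q (D.emb T z) : V ≃ₗ[F] V) (D.b k)
        rw [hon k hk, rO_fix (D.polar_emb_out T z hk)]
      · push Not at hk
        obtain ⟨i, rfl⟩ := hk
        obtain ⟨α, β, γ, e⟩ := hgen (Pi.single i 1)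
        show (h : V ≃ₗ[F] V) (D.b (T.ι i)) = (rO Q (D.emb T z) : V ≃ₗ[F] V) (D.b (T.ι i))
        rw [← D.emb_single T i, ← hembA, e, act_add, act_add, act_smul, act_smul, act_smul, hx, hy, ← hz', hz'c, h1]
        simp only [map_add, map_smul]
        rw [rO_fix (show polar Q (D.emb T z) (D.emb T x) = 0 by rw [D.polar_emb, dotProduct_comm, cross_left, mul_zero]),
          rO_fix (show polar Q (D.emb T z) (D.emb T y) = 0 by rw [D.polar_emb, dotProduct_comm, cross_right, mul_zero]),
          rO_self hQz, neg_one_smul]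
    have := hh.2.1
    rw [e, detSign_rO hX.hQ D.two hQz] at this
    exact absurd this (by decide)

/-- An isometry of determinant one of an odd-dimensional space fixes a vector. -/
theorem Over.exists_fix (hX : D.Over X) {g : O Q} (hg : detSign Q hX.hQ D.two g = 1) :
    ∃ v, v ≠ 0 ∧ (g : V ≃ₗ[F] V) v = v := by
  classical
  set M : Matrix (Fin n) (Fin n) F := LinearMap.toMatrix D.b D.b ((g : V ≃ₗ[F] V) : V →ₗ[F] V) with hM
  have hcol : ∀ j, (g : V ≃ₗ[F] V) (D.b j) = D.vec (fun i => M i j) := fun j => by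
    conv_lhs => rw [← D.b.equivFun.symm_apply_apply ((g : V ≃ₗ[F] V) (D.b j))]
    refine congrArg D.vec (funext fun i => ?_)
    rw [hM, LinearMap.toMatrix_apply]; rfl
  have horth : Mᵀ * M = 1 := by
    ext i j
    refine mul_left_cancel₀ (mul_ne_zero D.two D.ha) ?_
    have := D.polar_vec (fun k => M k i) (fun k => M k j)
    rw [← hcol, ← hcol, O.polar_app, D.polar_b] at this
    rw [Matrix.one_apply, Matrix.mul_apply]
    simp only [Matrix.transpose_apply]
    rw [show (∑ k, M k i * M k j) = (fun k => M k i) ⬝ᵥ (fun k => M k j) from rfl, ← this]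
    split_ifs <;> simp
  have hdet : M.det = 1 := by
    rw [hM, LinearMap.det_toMatrix]
    exact (detSign_eq_one_iff hX.hQ D.two g).1 hg
  have h0 : (M - 1).det = 0 := by
    have e : (M - 1)ᵀ * M = -(M - 1) := by
      rw [Matrix.transpose_sub, Matrix.transpose_one, Matrix.sub_mul, horth, one_mul, neg_sub]
    have := congrArg Matrix.det e
    rw [Matrix.det_mul, Matrix.det_transpose, hdet, mul_one, Matrix.det_neg, Fintype.card_fin,
      hX.odd.neg_one_pow] at this
    exact (mul_eq_zero.1 (show (2 : F) * (M - 1).det = 0 by linear_combination this)).resolve_left D.two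
  obtain ⟨y, hy, hy'⟩ := Matrix.exists_mulVec_eq_zero_iff.2 h0
  refine ⟨D.vec y, (map_ne_zero_iff _ D.vec.injective).2 hy, ?_⟩
  rw [Matrix.sub_mulVec, Matrix.one_mulVec, sub_eq_zero] at hy'
  conv_rhs => rw [← hy']
  rw [D.vec_eq, map_sum]
  simp only [map_smul, hcol]
  rw [Finset.sum_congr rfl (fun x _ => (D.vec.map_smul _ _).symm), ← map_sum]
  congr 1
  funext i
  simp [Matrix.mulVec, dotProduct, mul_comm]

end Frm

end Cfsg.Agent.H85.Frame
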