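import Cfsg.Agent.H85.Frame.Gen
import Cfsg.Agent.H98.SubfieldOrth.Invol
import Cfsg.Agent.Orthogonal.Spinor

/-!
Frame images have support at most two, unless one has support three or two of them are tangent.
-/

set_option autoImplicit false

namespace Cfsg.Agent.H85.Frame

open QuadraticMap Module Cfsg.Agent.Orthogonal Cfsg.Agent.H98
open Cfsg.Agent.H98.SubfieldOrth (exists_central invol_polar)

variable {F V : Type*} [Field F] [Fintype F] [DecidableEq F] [AddCommGroup V] [Module F V] [FiniteDimensional F V]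
  {Q : QuadraticForm F V} {n : ℕ}

/-- The support of a coordinate vector. -/
def supp (f : Fin n → F) : Finset (Fin n) := Finset.univ.filter fun k => f k ≠ 0

omit [Fintype F] in
theorem mem_supp {f : Fin n → F} {k : Fin n} : k ∈ supp f ↔ f k ≠ 0 := by simp [supp]

omit [Fintype F] in
theorem eq_zero_of_notMem {f : Fin n → F} {k : Fin n} (h : k ∉ supp f) : f k = 0 := by
  by_contra h'; exact h (mem_supp.2 h')

variable {D : Frm Q n} {X : Subgroup (O Q)}

namespace Frm

/-- No two frame images are tangent. -/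
def Over.NT (_ : D.Over X) : Prop := ∀ f g, D.Orb X f → D.Orb X g → f ⬝ᵥ g = 1 → f = g

theorem Over.nt_of_not (hX : D.Over X) (hno : ¬ sieGroup Q ≤ X) : hX.NT := by
  intro f h hf hh hfh
  by_contra hne
  have key : ∀ f h : Fin n → F, D.Orb X h → f ⬝ᵥ h = 1 → f ≠ h → ∀ g ∈ X, ∀ i,
      D.vec f = (g : V ≃ₗ[F] V) (D.b i) → sieGroup Q ≤ X := by
    intro f h hh hfh hne g hg i hi
    obtain ⟨y, hy⟩ := D.vec.surjective (((g⁻¹ : O Q) : V ≃ₗ[F] V) (D.vec h))
    have hyo : D.Orb X y := hh.map (X.inv_mem hg) hy.symm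
    have hgy : (g : V ≃ₗ[F] V) (D.vec y) = D.vec h := by
      rw [hy, ← mul_app, ← Subgroup.coe_mul, mul_inv_cancel]; rfl
    have hyi : y i = 1 := by
      refine mul_left_cancel₀ (mul_ne_zero D.two D.ha) ?_
      rw [← D.polar_vec_b, ← O.polar_app g, hgy, ← hi, D.polar_vec, dotProduct_comm, hfh]
    refine hX.sieGroup_le_of_tangent (w := y - D.unit i) (i1 := i) (by simp [unit, hyi]) (fun h0 => hne ?_)
      (by rwa [add_sub_cancel])
    apply D.vec.injective
    rw [hi, ← hgy, sub_eq_zero.1 h0, D.vec_unit]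
  obtain ⟨g, hg, i, hi | hi⟩ := hf
  · exact hno (key f h hh hfh hne g hg i hi)
  · exact hno (key (-f) (-h) hh.neg (by simpa using hfh) (fun e => hne (neg_injective e)) g hg i
      (by rw [map_neg, hi, neg_neg]))

omit [DecidableEq F] in
theorem Over.sq_one (hX : D.Over X) (hnt : hX.NT) {f : Fin n → F} (hf : D.Orb X f) {k : Fin n}
    (hk : f k * f k = 1) : f = f k • D.unit k := by
  rcases mul_self_eq_one_iff.1 hk with h | h
  · rw [h, one_smul]
    exact hnt f _ hf (orb_unit k) (by simp [unit, h])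
  · rw [h, neg_one_smul]
    exact hnt f _ hf (orb_unit k).neg (by simp [unit, h])

theorem Over.supp_sq_one (hX : D.Over X) (hnt : hX.NT) {f : Fin n → F} (hf : D.Orb X f) {k l : Fin n}
    (hk : f k * f k = 1) (hl : f l ≠ 0) : l = k := by
  by_contra h
  exact hl (by rw [hX.sq_one hnt hf hk]; simp [unit, h])

theorem Orb.swap1 (hX : D.Over X) {f : Fin n → F} (hf : D.Orb X f) {k l : Fin n} (hkl : k ≠ l) (h : f k = f l)
    {i j : Fin n} (hij : i ≠ j) : D.Orb X (f ∘ Equiv.swap i j) := by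
  have e : f ∘ Equiv.swap k l = f := by
    funext m
    rcases eq_or_ne m k with rfl | hmk
    · simp [h]
    rcases eq_or_ne m l with rfl | hml
    · simp [h]
    · simp [Equiv.swap_apply_of_ne_of_ne hmk hml]
  have := hf.swap hX hij hkl
  rwa [← Function.comp_assoc, e] at this

theorem exists_two_zero {f : Fin n → F} (h : (supp f).card + 2 ≤ n) : ∃ k l, k ≠ l ∧ f k = 0 ∧ f l = 0 := by
  obtain ⟨k, hk, l, hl, hkl⟩ := Finset.one_lt_card.1 (show 1 < (Finset.univ \ supp f).card by
    rw [Finset.card_univ_sdiff, Fintype.card_fin]; omega)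
  exact ⟨k, l, hkl, eq_zero_of_notMem (Finset.mem_sdiff.1 hk).2, eq_zero_of_notMem (Finset.mem_sdiff.1 hl).2⟩

theorem supp_comp (f : Fin n → F) (σ : Equiv.Perm (Fin n)) : (supp (f ∘ σ)).card = (supp f).card := by
  refine Finset.card_equiv σ fun i => ?_
  simp [mem_supp]

/-- Frame images of small support can be permuted. -/
theorem Orb.perm (hX : D.Over X) {f : Fin n → F} (hf : D.Orb X f) (hs : (supp f).card + 2 ≤ n)
    (σ : Equiv.Perm (Fin n)) : D.Orb X (f ∘ σ) := by
  induction σ using Equiv.Perm.swap_induction_on generalizing f with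
  | one => exact hf
  | swap_mul τ x y hxy ih =>
    have h : D.Orb X (f ∘ Equiv.swap x y) := by
      obtain ⟨c, d, hcd, hc, hd⟩ := exists_two_zero hs
      exact hf.swap1 hX hcd (hc.trans hd.symm) hxy
    exact ih h (by rwa [supp_comp])

/-- A frame image of support two brought to two given positions. -/
theorem Over.exists_two (hX : D.Over X) {f : Fin n → F} (hf : D.Orb X f) {a b k l : Fin n}
    (hS : supp f = {a, b}) (hab : a ≠ b) (hkl : k ≠ l) :
    D.Orb X (f a • D.unit k + f b • D.unit l) := by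
  have hn := hX.five
  set σ₀ := Equiv.swap k a with hσ₀
  set σ := Equiv.swap (σ₀ l) b * σ₀ with hσ
  have hk : σ k = a := by
    rw [hσ, Equiv.Perm.mul_apply, hσ₀, Equiv.swap_apply_left, Equiv.swap_apply_of_ne_of_ne ?_ hab]
    intro e
    exact hkl (σ₀.injective (by rw [hσ₀, Equiv.swap_apply_left]; exact e))
  have hl : σ l = b := by rw [hσ, Equiv.Perm.mul_apply, Equiv.swap_apply_left]
  have h := hf.perm hX (by rw [hS, Finset.card_pair hab]; omega) σ
  have e : f a • D.unit k + f b • D.unit l = f ∘ σ := by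
    funext m
    simp only [Function.comp_apply, Pi.add_apply, Pi.smul_apply, smul_eq_mul, unit, Pi.single_apply]
    rcases eq_or_ne m k with rfl | hmk
    · simp [hkl, hk]
    rcases eq_or_ne m l with rfl | hml
    · simp [hkl.symm, hl]
    · simp only [hmk, hml, if_false, mul_zero, add_zero]
      exact (eq_zero_of_notMem (by
        rw [hS, Finset.mem_insert, Finset.mem_singleton, ← hk, ← hl, σ.injective.eq_iff, σ.injective.eq_iff]
        tauto)).symm
  rwa [e]

/-- An element of X fixing a frame line cannot map another frame vector to support two. -/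
theorem Over.no_two (hX : D.Over X) (h3 : ∀ f, D.Orb X f → (supp f).card ≠ 3) {z : O Q} (hz : z ∈ X)
    {k l : Fin n} (hkl : k ≠ l) {δ : F} (hδ : δ ≠ 0) (hzk : (z : V ≃ₗ[F] V) (D.b k) = δ • D.b k)
    {f : Fin n → F} (hzl : (z : V ≃ₗ[F] V) (D.b l) = D.vec f) (hfk : f k = 0) : (supp f).card ≠ 2 := by
  intro hc
  obtain ⟨a, b, hab, hS⟩ := Finset.card_eq_two.1 hc
  have hf : D.Orb X f := (orb_unit l).map hz (by rw [D.vec_unit, hzl])
  have hfa : f a ≠ 0 := mem_supp.1 (by simp [hS])
  have hfb : f b ≠ 0 := mem_supp.1 (by simp [hS])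
  have hy := (hX.exists_two hf hS hab hkl).map hz (f' := f a • (δ • D.unit k) + f b • f) (by
    simp only [map_add, map_smul, D.vec_unit, hzk, hzl])
  refine h3 _ hy ?_
  rw [Finset.card_eq_three]
  refine ⟨k, a, b, fun e => hfa (e ▸ hfk), fun e => hfb (e ▸ hfk), hab, ?_⟩
  ext m
  simp only [mem_supp, Finset.mem_insert, Finset.mem_singleton, Pi.add_apply, Pi.smul_apply, smul_eq_mul, unit,
    Pi.single_apply]
  rcases eq_or_ne m k with rfl | hmk
  · simp [hfk, hfa, hδ]
  · by_cases hm : m ∈ supp f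
    · have := mem_supp.1 hm
      simp only [hS, Finset.mem_insert, Finset.mem_singleton] at hm
      simp [hmk, this, hfb, hm]
    · have := eq_zero_of_notMem hm
      simp only [hS, Finset.mem_insert, Finset.mem_singleton] at hm
      simp [hmk, this, hm]

omit [DecidableEq F] in
theorem Over.det_eq (hX : D.Over X) {g : O Q} (hg : g ∈ X) : detSign Q hX.hQ D.two g = 1 :=
  Abelianization.commutator_subset_ker (detSign Q hX.hQ D.two) (hX.le hg)

omit [DecidableEq F] in
theorem Over.det_negO (hX : D.Over X) : detSign Q hX.hQ D.two (negO Q) = -1 := by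
  have hn := hX.five
  have h := hX.det_eq (hX.negrO_mem ⟨0, by omega⟩)
  rw [map_mul, detSign_rO hX.hQ D.two (show Q (D.b _) ≠ 0 by rw [D.val]; exact D.ha)] at h
  rwa [mul_neg_one, neg_eq_iff_eq_neg] at h

omit [DecidableEq F] in
/-- Coordinates of the image of a frame vector under an involution are symmetric. -/
theorem coords_symm {z : O Q} (hz : z * z = 1) {M : Fin n → Fin n → F}
    (hM : ∀ k, (z : V ≃ₗ[F] V) (D.b k) = D.vec (M k)) (k l : Fin n) : M k l = M l k := by
  refine mul_left_cancel₀ (mul_ne_zero D.two D.ha) ?_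
  rw [← D.polar_vec_b (M k) l, ← D.polar_vec_b (M l) k, ← hM, ← hM, invol_polar hz, polar_comm]

/-- The central involution attached to a frame image and two frame vectors. -/
theorem Over.exists_inv (hX : D.Over X) {v : Fin n → F} (hv : D.Orb X v) {i j : Fin n} (hij : i ≠ j) :
    ∃ z ∈ X, z * z = 1 ∧ z ≠ 1 ∧ ∃ δ ε : F, δ * δ = 1 ∧ (z : V ≃ₗ[F] V) (D.vec v) = ε • D.vec v ∧
      (∀ k, k = i ∨ k = j → ∀ m, m ≠ i → m ≠ j → polar Q ((z : V ≃ₗ[F] V) (D.b k)) (D.b m) = 0) ∧
      ∀ x, polar Q (D.vec v) x = 0 → polar Q (D.b i) x = 0 → polar Q (D.b j) x = 0 →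
        (z : V ≃ₗ[F] V) x = δ • x := by
  have hn := hX.five
  have hQb : ∀ k, Q (D.b k) ≠ 0 := fun k => by rw [D.val]; exact D.ha
  have hQv : Q (D.vec v) ≠ 0 := by rw [D.Q_vec, hv.norm, mul_one]; exact D.ha
  set a : O Q := negO Q * rO Q (D.vec v) with ha
  set b : O Q := rO Q (D.b i) * rO Q (D.b j) with hb
  have haa : a * a = 1 := by
    rw [ha, mul_assoc (negO Q), ← mul_assoc (rO Q _) (negO Q), ← negO_comm, mul_assoc (negO Q) (rO Q _), rO_mul_self,
      mul_one, negO_sq]
  have hcomm : rO Q (D.b i) * rO Q (D.b j) = rO Q (D.b j) * rO Q (D.b i) := by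
    have := conj_rO (Q := Q) (rO Q (D.b i)) (D.b j)
    rwa [rO_fix (D.orth i j hij), mul_inv_eq_iff_eq_mul] at this
  have hbb : b * b = 1 := by
    rw [hb]; nth_rewrite 2 [hcomm]
    rw [mul_assoc, ← mul_assoc (rO Q (D.b j)), rO_mul_self, one_mul, rO_mul_self]
  have ha_app : ∀ x, (a : V ≃ₗ[F] V) x = -(rO Q (D.vec v) : V ≃ₗ[F] V) x := fun x => by
    rw [ha, Subgroup.coe_mul, mul_app, negO_app]
  have haperp : ∀ x, polar Q (D.vec v) x = 0 → (a : V ≃ₗ[F] V) x = -x := fun x hx => by rw [ha_app, rO_fix hx]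
  have hav : (a : V ≃ₗ[F] V) (D.vec v) = D.vec v := by rw [ha_app, rO_self hQv, neg_neg]
  have hafix : ∀ x, (a : V ≃ₗ[F] V) x = x → ∃ c : F, x = c • D.vec v := fun x hx => by
    rw [ha_app, rO_app, neg_sub, sub_eq_iff_eq_add, ← two_smul F x] at hx
    exact ⟨2⁻¹ * ((Q (D.vec v))⁻¹ * polar Q (D.vec v) x), by rw [mul_smul, hx, inv_smul_smul₀ D.two]⟩
  have hbi : (b : V ≃ₗ[F] V) (D.b i) = -D.b i := by
    rw [hb, Subgroup.coe_mul, mul_app, rO_fix (D.orth j i hij.symm), rO_self (hQb i)]
  have hbj : (b : V ≃ₗ[F] V) (D.b j) = -D.b j := by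
    rw [hb, Subgroup.coe_mul, mul_app, rO_self (hQb j), map_neg, rO_fix (D.orth i j hij)]
  have hbk : ∀ k, k ≠ i → k ≠ j → (b : V ≃ₗ[F] V) (D.b k) = D.b k := fun k h1 h2 => by
    rw [hb, Subgroup.coe_mul, mul_app, rO_fix (D.orth j k (Ne.symm h2)), rO_fix (D.orth i k (Ne.symm h1))]
  have hne' : ∀ g : O Q, g * a * g⁻¹ ≠ b := by
    intro g hg
    obtain ⟨k, hk, l, hl, hkl⟩ := Finset.one_lt_card.1 (show 1 < (Finset.univ \ {i, j} : Finset (Fin n)).card by
      rw [Finset.card_univ_sdiff, Fintype.card_fin, Finset.card_pair hij]; omega)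
    simp only [Finset.mem_sdiff, Finset.mem_univ, Finset.mem_insert, Finset.mem_singleton, true_and, not_or] at hk hl
    have hfix : ∀ y, (b : V ≃ₗ[F] V) y = y → ∃ c : F, y = c • (g : V ≃ₗ[F] V) (D.vec v) := by
      intro y hy
      obtain ⟨x, rfl⟩ := (g : V ≃ₗ[F] V).surjective y
      rw [H98.SubfieldOrth.app_conj (s := a) (by rw [← hg, inv_mul_cancel_right])] at hy
      obtain ⟨c, rfl⟩ := hafix x ((g : V ≃ₗ[F] V).injective hy)
      exact ⟨c, map_smul _ _ _⟩
    obtain ⟨c, hc⟩ := hfix _ (hbk k hk.1 hk.2)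
    obtain ⟨e, he⟩ := hfix _ (hbk l hl.1 hl.2)
    have h := D.orth k l hkl
    rw [hc, he, polar_smul_left', polar_smul_right', O.polar_app, polar_self', ← mul_assoc] at h
    have hc0 : c ≠ 0 := fun e0 => D.b.ne_zero k (by rw [hc, e0, zero_smul])
    have he0 : e ≠ 0 := fun e0 => D.b.ne_zero l (by rw [he, e0, zero_smul])
    exact mul_ne_zero (mul_ne_zero hc0 he0) (mul_ne_zero D.two hQv) h
  have := H98.SubfieldOrth.finite_O (Q := Q)
  obtain ⟨r, hzz, hz1, hza, hzb, -, -⟩ := exists_central haa hbb hne'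
  set z := (a * b) ^ r with hz
  have hpow : ∀ (m : ℕ) x, polar Q (D.vec v) x = 0 → (b : V ≃ₗ[F] V) x = x →
      (((a * b) ^ m : O Q) : V ≃ₗ[F] V) x = ((-1 : F) ^ m) • x := by
    intro m x hx hbx
    induction m with
    | zero => simp
    | succ m ih =>
      rw [pow_succ, Subgroup.coe_mul, mul_app, Subgroup.coe_mul, mul_app, hbx, haperp x hx, map_neg, ih, pow_succ]
      module
  obtain ⟨ε, hzv⟩ := hafix ((z : V ≃ₗ[F] V) (D.vec v)) (by
    rw [← mul_app, ← Subgroup.coe_mul, ← hza.eq, Subgroup.coe_mul, mul_app, hav])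
  refine ⟨z, X.pow_mem (X.mul_mem (hX.negrO_orb hv) (hX.pair_mem i j)) r, hzz, hz1, (-1) ^ r, ε,
    by rw [← mul_pow]; simp, hzv, fun k hk m h1 h2 => ?_,
    fun x hx h1 h2 => hpow r x hx (by rw [hb, Subgroup.coe_mul, mul_app, rO_fix h2, rO_fix h1])⟩
  have hbk' : (b : V ≃ₗ[F] V) (D.b k) = -D.b k := by rcases hk with rfl | rfl; exacts [hbi, hbj]
  have e : polar Q ((z : V ≃ₗ[F] V) (D.b k)) (D.b m) = -polar Q ((z : V ≃ₗ[F] V) (D.b k)) (D.b m) := by
    conv_lhs => rw [← O.polar_app b, hbk m h1 h2, ← mul_app, ← Subgroup.coe_mul, ← hzb.eq, Subgroup.coe_mul,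
      mul_app, hbk', map_neg, polar_neg_left]
  rw [eq_neg_iff_add_eq_zero, ← two_mul] at e
  exact (mul_eq_zero.1 e).resolve_left D.two

/-- The coordinates of that involution. -/
theorem Over.exists_inv_coords (hX : D.Over X) {v : Fin n → F} (hv : D.Orb X v) {i j : Fin n} (hij : i ≠ j)
    {l0 : Fin n} (hl0 : v l0 ≠ 0) (hl0i : l0 ≠ i) (hl0j : l0 ≠ j) (hi : v i ≠ 0) (hj : v j ≠ 0) :
    ∃ z ∈ X, z ≠ 1 ∧ ∃ (M : Fin n → Fin n → F) (δ ε κ : F), δ * δ = 1 ∧
      (∀ k, (z : V ≃ₗ[F] V) (D.b k) = D.vec (M k)) ∧ (∀ k l, M k l = M l k) ∧ (∀ m, ε * v m = v ⬝ᵥ M m) ∧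
      (∀ k, k = i ∨ k = j → ∀ m, m ≠ i → m ≠ j → M k m = 0) ∧ (∀ k, v k = 0 → M k = δ • D.unit k) ∧
      ∀ l, l ≠ i → l ≠ j → ∀ m,
        M l m = (if m = l then δ else 0) + (if m = i ∨ m = j then 0 else κ * v l * v m) := by
  obtain ⟨z, hzX, hzz, hz1, δ, ε, hδ2, hzv, hpair', hzperp⟩ := hX.exists_inv hv hij
  have h2a : (2 * D.a : F) ≠ 0 := mul_ne_zero D.two D.ha
  let M : Fin n → Fin n → F := fun k => D.vec.symm ((z : V ≃ₗ[F] V) (D.b k))
  have hM : ∀ k, (z : V ≃ₗ[F] V) (D.b k) = D.vec (M k) := fun k => (D.vec.apply_symm_apply _).symm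
  have hsym := coords_symm hzz hM
  have hvM : ∀ m, ε * v m = v ⬝ᵥ M m := fun m => by
    refine mul_left_cancel₀ h2a ?_
    rw [← D.polar_vec, ← hM, ← invol_polar hzz, hzv, polar_smul_left', D.polar_vec_b]; ring
  have hpair : ∀ k, k = i ∨ k = j → ∀ m, m ≠ i → m ≠ j → M k m = 0 := fun k hk m h1 h2 => by
    have := hpair' k hk m h1 h2
    rw [hM, D.polar_vec_b] at this
    exact (mul_eq_zero.1 this).resolve_left h2a
  have hout : ∀ k, v k = 0 → M k = δ • D.unit k := fun k hk => by
    apply D.vec.injective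
    rw [← hM, map_smul, D.vec_unit]
    exact hzperp _ (by rw [D.polar_vec_b, hk, mul_zero]) (D.orth i k fun e => hi (e ▸ hk))
      (D.orth j k fun e => hj (e ▸ hk))
  set N : Fin n → Fin n → F := fun l => M l - δ • D.unit l with hN
  have hNsym : ∀ l m, N l m = N m l := fun l m => by
    simp only [hN, Pi.sub_apply, Pi.smul_apply, unit, Pi.single_apply, hsym l m]
    rcases eq_or_ne m l with rfl | h
    · rfl
    · simp [h, h.symm]
  have hrel : ∀ l m, l ≠ i → l ≠ j → m ≠ i → m ≠ j → ∀ k, v m * N l k = v l * N m k := by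
    intro l m hli hlj hmi hmj k
    have h := hzperp (v m • D.b l - v l • D.b m)
      (by rw [polar_sub_right, polar_smul_right', polar_smul_right', D.polar_vec_b, D.polar_vec_b]; ring)
      (by rw [polar_sub_right, polar_smul_right', polar_smul_right', D.orth i l hli.symm, D.orth i m hmi.symm]; ring)
      (by rw [polar_sub_right, polar_smul_right', polar_smul_right', D.orth j l hlj.symm, D.orth j m hmj.symm]; ring)
    have h' : D.vec (v m • N l - v l • N m) = 0 := by
      simp only [hN, map_sub, map_smul, ← hM, D.vec_unit]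
      rw [map_sub, map_smul, map_smul] at h
      rw [← sub_eq_zero] at h
      rw [← h]; module
    have := congrFun ((map_eq_zero_iff _ D.vec.injective).1 h') k
    simpa [sub_eq_zero] using this
  set κ := N l0 l0 / (v l0 * v l0) with hκ
  have hNf : ∀ l m, l ≠ i → l ≠ j → m ≠ i → m ≠ j → N l m = κ * v l * v m := by
    intro l m hli hlj hmi hmj
    have e1 := hrel l l0 hli hlj hl0i hl0j m
    have e2 := hrel m l0 hmi hmj hl0i hl0j l0
    rw [hNsym m l0] at e2
    rw [hκ]; field_simp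
    linear_combination v l0 * e1 + v l * e2
  refine ⟨z, hzX, hz1, M, δ, ε, κ, hδ2, hM, hsym, hvM, hpair, hout, fun l hli hlj m => ?_⟩
  by_cases hm : m = i ∨ m = j
  · rw [if_pos hm, if_neg (fun e => by rcases hm with rfl | rfl <;> simp_all), hsym, add_zero]
    exact hpair m hm l hli hlj
  · rw [if_neg hm]
    push Not at hm
    have := hNf l m hli hlj hm.1 hm.2
    simp only [hN, Pi.sub_apply, Pi.smul_apply, unit, Pi.single_apply, smul_eq_mul] at this
    split_ifs at this ⊢ with h <;> linear_combination this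

/-- The central involution of a dihedral group of frame images shortens supports. -/
theorem Over.lemmaZ (hX : D.Over X) (hnt : hX.NT) (h3 : ∀ f, D.Orb X f → (supp f).card ≠ 3) {v : Fin n → F}
    (hv : D.Orb X v) (hs : 4 ≤ (supp v).card)
    (hlow : ∀ f, D.Orb X f → 3 ≤ (supp f).card → (supp v).card < (supp f).card + 2)
    {i j : Fin n} (hi : v i ≠ 0) (hj : v j ≠ 0) (hne : v i * v i ≠ v j * v j) :
    (supp v).card = 4 ∧ ∀ l m, l ∈ supp v → m ∈ supp v → l ≠ i → l ≠ j → m ≠ i → m ≠ j →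
      v l * v l = v m * v m := by
  have hn := hX.five
  have hij : i ≠ j := fun e => hne (by rw [e])
  obtain ⟨l0, hl0, hl0i, hl0j⟩ : ∃ l, v l ≠ 0 ∧ l ≠ i ∧ l ≠ j := by
    obtain ⟨l, hl⟩ : (supp v \ {i, j}).Nonempty := by
      rw [← Finset.card_pos]
      have := Finset.le_card_sdiff {i, j} (supp v)
      have := Finset.card_pair hij
      omega
    simp only [Finset.mem_sdiff, mem_supp, Finset.mem_insert, Finset.mem_singleton, not_or] at hl
    exact ⟨l, hl.1, hl.2.1, hl.2.2⟩
  obtain ⟨z, hzX, hz1, M, δ, ε, κ, hδ2, hM, hsym, hvM, hpair, hout, hMl⟩ :=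
    hX.exists_inv_coords hv hij hl0 hl0i hl0j hi hj
  have hMo : ∀ k, D.Orb X (M k) := fun k => (orb_unit k).map hzX (by rw [D.vec_unit, hM])
  have hδ0 : δ ≠ 0 := fun e => one_ne_zero (hδ2.symm.trans (by rw [e, mul_zero]))
  by_cases hκ0 : κ = 0
  · exfalso
    have hM' : ∀ l, l ≠ i → l ≠ j → M l = δ • D.unit l := fun l hli hlj => by
      funext m
      simp [hMl l hli hlj m, hκ0, unit, Pi.single_apply]
    have hzl0 : (z : V ≃ₗ[F] V) (D.b l0) = δ • D.b l0 := by rw [hM, hM' l0 hl0i hl0j, map_smul, D.vec_unit]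
    have hεδ : ε = δ := by
      have := hvM l0
      rw [hM' l0 hl0i hl0j, dotProduct_smul, unit, dotProduct_single, mul_one, smul_eq_mul] at this
      exact mul_right_cancel₀ hl0 this
    have hone : ∀ p, p = i ∨ p = j → (supp (M p)).card ≤ 1 := fun p hp => by
      have hsub : supp (M p) ⊆ {i, j} := fun m hm => by
        by_contra h
        simp only [Finset.mem_insert, Finset.mem_singleton, not_or] at h
        exact mem_supp.1 hm (hpair p hp m h.1 h.2)
      have hl0p : l0 ≠ p := by rcases hp with rfl | rfl; exacts [hl0i, hl0j]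
      have := hX.no_two h3 hzX hl0p hδ0 hzl0 (hM p) (hpair p hp l0 hl0i hl0j)
      have := (Finset.card_le_card hsub).trans_eq (Finset.card_pair hij)
      omega
    have hsingle : ∀ p q, (p = i ∨ p = j) → M p q ≠ 0 → M p = M p q • D.unit q := fun p q hp hq => by
      funext m
      rcases eq_or_ne m q with rfl | hm
      · simp [unit]
      · have : M p m = 0 := by
          by_contra h
          exact hm (Finset.card_le_one.1 (hone p hp) m (mem_supp.2 h) q (mem_supp.2 hq))
        simp [unit, hm, this]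
    have hMij : M i j = 0 := by
      by_contra h
      have e := hsingle i j (Or.inl rfl) h
      have h1 := hvM i
      have h2 := (hMo i).norm
      rw [e, dotProduct_smul, unit, dotProduct_single, mul_one, smul_eq_mul] at h1
      rw [e, smul_dotProduct, dotProduct_smul, unit, dotProduct_single, Pi.single_eq_same, smul_eq_mul, smul_eq_mul,
        mul_one, mul_one] at h2
      apply hne
      rw [hεδ] at h1
      linear_combination -(v i * v i) * hδ2 + (δ * v i + M i j * v j) * h1 + (v j * v j) * h2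
    have hdiag : ∀ p, p = i ∨ p = j → M p = δ • D.unit p := by
      intro p hp
      have hvp : v p ≠ 0 := by rcases hp with rfl | rfl <;> assumption
      have hpp : ∀ m, m ≠ p → M p m = 0 := by
        intro m hm
        rcases hp with rfl | rfl
        · rcases eq_or_ne m j with rfl | hmj
          · exact hMij
          · exact hpair p (Or.inl rfl) m hm hmj
        · rcases eq_or_ne m i with rfl | hmi
          · rw [hsym]; exact hMij
          · exact hpair p (Or.inr rfl) m hmi hm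
      have e : M p = M p p • D.unit p := by
        funext m
        rcases eq_or_ne m p with rfl | hm
        · simp [unit]
        · simp [unit, hm, hpp m hm]
      have h1 := hvM p
      rw [e, dotProduct_smul, unit, dotProduct_single, mul_one, smul_eq_mul, hεδ] at h1
      rw [e, ← mul_right_cancel₀ hvp h1]
    have hall : ∀ x, (z : V ≃ₗ[F] V) x = δ • x := fun x => by
      obtain ⟨f, rfl⟩ := D.vec.surjective x
      rw [D.vec_eq, map_sum, Finset.smul_sum]
      refine Finset.sum_congr rfl fun k _ => ?_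
      rw [map_smul, hM, smul_comm]
      congr 1
      by_cases hk : k = i ∨ k = j
      · rw [hdiag k hk, map_smul, D.vec_unit]
      · push Not at hk
        rw [hM' k hk.1 hk.2, map_smul, D.vec_unit]
    rcases mul_self_eq_one_iff.1 hδ2 with h | h
    · exact hz1 (O.ext_app fun x => by rw [hall, h, one_smul]; rfl)
    · have hneg : z = negO Q := O.ext_app fun x => by rw [hall, h, neg_one_smul, negO_app]
      have := hX.det_eq hzX
      rw [hneg, hX.det_negO] at this
      exact absurd this (by decide)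
  -- the non-scalar case
  have hRsupp : ∀ l m, v l ≠ 0 → l ≠ i → l ≠ j → v m ≠ 0 → m ≠ i → m ≠ j → m ≠ l → M l m ≠ 0 := by
    intro l m hl hli hlj hm hmi hmj hml
    rw [hMl l hli hlj m, if_neg hml, if_neg (by tauto), zero_add]
    exact mul_ne_zero (mul_ne_zero hκ0 hl) hm
  set R := ((supp v).erase i).erase j with hR
  have hmemR : ∀ {m}, m ∈ R ↔ v m ≠ 0 ∧ m ≠ i ∧ m ≠ j := fun {m} => by simp [hR, mem_supp]; tauto
  have hcardR : R.card = (supp v).card - 2 := by
    rw [hR, Finset.card_erase_of_mem (Finset.mem_erase.2 ⟨hij.symm, mem_supp.2 hj⟩),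
      Finset.card_erase_of_mem (mem_supp.2 hi)]
    omega
  have hsubR : ∀ l, l ∈ R → supp (M l) ⊆ R := by
    intro l hl m hm
    rw [hmemR] at hl
    have hm' := mem_supp.1 hm
    rw [hMl l hl.2.1 hl.2.2 m] at hm'
    rw [hmemR]
    rcases eq_or_ne m l with rfl | hml
    · exact hl
    rw [if_neg hml, zero_add] at hm'
    split_ifs at hm' with h
    · exact absurd rfl hm'
    push Not at h
    exact ⟨right_ne_zero_of_mul hm', h⟩
  have hsupR : ∀ l, l ∈ R → R.erase l ⊆ supp (M l) := by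
    intro l hl m hm
    obtain ⟨hml, hm⟩ := Finset.mem_erase.1 hm
    rw [hmemR] at hl hm
    exact mem_supp.2 (hRsupp l m hl.1 hl.2.1 hl.2.2 hm.1 hm.2.1 hm.2.2 hml)
  have hs5 : (supp v).card ≤ 5 := by
    by_contra h
    have hl : l0 ∈ R := hmemR.2 ⟨hl0, hl0i, hl0j⟩
    have h1 := Finset.card_le_card (hsupR l0 hl)
    have h2 := Finset.card_le_card (hsubR l0 hl)
    rw [Finset.card_erase_of_mem hl] at h1
    have := hlow _ (hMo l0) (by omega)
    omega
  have hzero : ∀ l, l ∈ R → M l l = 0 := by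
    intro l hl
    by_contra h
    have e : supp (M l) = R := Finset.Subset.antisymm (hsubR l hl) (fun m hm => by
      rcases eq_or_ne m l with rfl | hml
      · exact mem_supp.2 h
      · exact hsupR l hl (Finset.mem_erase.2 ⟨hml, hm⟩))
    obtain h4 | h5 : (supp v).card = 4 ∨ (supp v).card = 5 := by omega
    · obtain ⟨k, hk⟩ : (Finset.univ \ supp v).Nonempty := by
        rw [← Finset.card_pos, Finset.card_univ_sdiff, Fintype.card_fin]; omega
      have hvk := eq_zero_of_notMem (Finset.mem_sdiff.1 hk).2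
      refine hX.no_two h3 hzX (k := k) (l := l) (fun ekl => (hmemR.1 hl).1 (ekl ▸ hvk)) hδ0
        (by rw [hM, hout k hvk, map_smul, D.vec_unit]) (hM l)
        (eq_zero_of_notMem fun hm => (hmemR.1 (hsubR l hl hm)).1 hvk) (by rw [e]; omega)
    · exact h3 _ (hMo l) (by rw [e]; omega)
  have hsq : ∀ l m, l ∈ R → m ∈ R → v l * v l = v m * v m := by
    intro l m hl hm
    have e1 := hzero l hl
    have e2 := hzero m hm
    rw [hmemR] at hl hm
    rw [hMl l hl.2.1 hl.2.2 l, if_pos rfl, if_neg (by tauto)] at e1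
    rw [hMl m hm.2.1 hm.2.2 m, if_pos rfl, if_neg (by tauto)] at e2
    refine mul_left_cancel₀ hκ0 ?_
    linear_combination e1 - e2
  obtain h4 | h5 : (supp v).card = 4 ∨ (supp v).card = 5 := by omega
  · exact ⟨h4, fun l m hl hm h1 h2 h1' h2' =>
      hsq l m (hmemR.2 ⟨mem_supp.1 hl, h1, h2⟩) (hmemR.2 ⟨mem_supp.1 hm, h1', h2'⟩)⟩
  exfalso
  obtain ⟨l, hl, m, hm, o, ho, hlm, hlo, hmo⟩ := Finset.two_lt_card.1 (show 2 < R.card by omega)
  have e1 := hzero l hl
  have e2 := hsq l m hl hm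
  have hl' := hmemR.1 hl
  have hm' := hmemR.1 hm
  rw [hMl l hl'.2.1 hl'.2.2 l, if_pos rfl, if_neg (by tauto)] at e1
  have e3 : M l m * M l m = 1 := by
    rw [hMl l hl'.2.1 hl'.2.2 m, if_neg hlm.symm, if_neg (by tauto), zero_add]
    linear_combination hδ2 + (κ * v l * v l - δ) * e1 - κ * κ * v l * v l * e2
  exact hmo (hX.supp_sq_one hnt (hMo l) e3 (mem_supp.1 (hsupR l hl (Finset.mem_erase.2 ⟨hlo.symm, ho⟩)))).symm

end Frm

end Cfsg.Agent.H85.Frame
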