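import Cfsg.Agent.H85.Frame.Reduce

/-!
Rotations of the space of three frame vectors.
-/

set_option autoImplicit false

namespace Cfsg.Agent.H85.Frame

open QuadraticMap Module Cfsg.Agent.Orthogonal Cfsg.Agent.H98

variable {F V : Type*} [Field F] [Fintype F] [AddCommGroup V] [Module F V] [FiniteDimensional F V]
  {Q : QuadraticForm F V} {n : ℕ}

/-- The cross product. -/
def cross (x y : Fin 3 → F) : Fin 3 → F :=
  ![x 1 * y 2 - x 2 * y 1, x 2 * y 0 - x 0 * y 2, x 0 * y 1 - x 1 * y 0]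

omit [Fintype F] in
theorem dot_three (x y : Fin 3 → F) : x ⬝ᵥ y = x 0 * y 0 + x 1 * y 1 + x 2 * y 2 := Fin.sum_univ_three _

omit [Fintype F] in
theorem cross_zero (x y : Fin 3 → F) : cross x y 0 = x 1 * y 2 - x 2 * y 1 := rfl

omit [Fintype F] in
theorem cross_one (x y : Fin 3 → F) : cross x y 1 = x 2 * y 0 - x 0 * y 2 := rfl

omit [Fintype F] in
theorem cross_two (x y : Fin 3 → F) : cross x y 2 = x 0 * y 1 - x 1 * y 0 := rfl

omit [Fintype F] in
theorem cross_left (x y : Fin 3 → F) : x ⬝ᵥ cross x y = 0 := by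
  rw [dot_three, cross_zero, cross_one, cross_two]; ring

omit [Fintype F] in
theorem cross_right (x y : Fin 3 → F) : y ⬝ᵥ cross x y = 0 := by
  rw [dot_three, cross_zero, cross_one, cross_two]; ring

omit [Fintype F] in
theorem cross_self (x y : Fin 3 → F) :
    cross x y ⬝ᵥ cross x y = (x ⬝ᵥ x) * (y ⬝ᵥ y) - (x ⬝ᵥ y) * (x ⬝ᵥ y) := by
  simp only [dot_three, cross_zero, cross_one, cross_two]; ring

omit [Fintype F] in
/-- Cramer's rule for the basis x, y, x × y. -/
theorem cross_expand (x y v : Fin 3 → F) :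
    ((x ⬝ᵥ x) * (y ⬝ᵥ y) - (x ⬝ᵥ y) * (x ⬝ᵥ y)) • v =
      ((y ⬝ᵥ y) * (v ⬝ᵥ x) - (x ⬝ᵥ y) * (v ⬝ᵥ y)) • x + ((x ⬝ᵥ x) * (v ⬝ᵥ y) - (x ⬝ᵥ y) * (v ⬝ᵥ x)) • y +
        (v ⬝ᵥ cross x y) • cross x y := by
  funext i
  simp only [Pi.add_apply, Pi.smul_apply, smul_eq_mul, dot_three, cross_zero, cross_one, cross_two]
  obtain rfl | rfl | rfl : i = 0 ∨ i = 1 ∨ i = 2 := by omega
  · rw [cross_zero]; ring
  · rw [cross_one]; ring
  · rw [cross_two]; ring

namespace Frm

variable (D : Frm Q n)

/-- Three frame positions and two more. -/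
structure Trio (n : ℕ) where
  ι : Fin 3 ↪ Fin n
  l₁ : Fin n
  l₂ : Fin n
  ne : l₁ ≠ l₂
  out₁ : ∀ i, ι i ≠ l₁
  out₂ : ∀ i, ι i ≠ l₂

variable (T : Trio n)

/-- The span of the three vectors, in coordinates. -/
noncomputable def emb : (Fin 3 → F) →ₗ[F] V where
  toFun y := ∑ i, y i • D.b (T.ι i)
  map_add' x y := by simp [add_smul, Finset.sum_add_distrib]
  map_smul' c y := by simp [mul_smul, Finset.smul_sum]

theorem emb_apply (y : Fin 3 → F) : D.emb T y = ∑ i, y i • D.b (T.ι i) := rfl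

theorem emb_single (i : Fin 3) : D.emb T (Pi.single i 1) = D.b (T.ι i) := by
  rw [emb_apply, Finset.sum_eq_single i (fun j _ hj => by simp [hj]) (by simp)]
  simp

theorem polar_emb_out (y : Fin 3 → F) {k : Fin n} (hk : ∀ i, T.ι i ≠ k) : polar Q (D.emb T y) (D.b k) = 0 := by
  rw [emb_apply, ← polarBilin_apply', map_sum, LinearMap.sum_apply]
  exact Finset.sum_eq_zero fun i _ => by
    rw [map_smul, LinearMap.smul_apply, polarBilin_apply', D.orth _ _ (hk i), smul_zero]

theorem polar_emb_b (y : Fin 3 → F) (i : Fin 3) : polar Q (D.emb T y) (D.b (T.ι i)) = 2 * D.a * y i := by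
  rw [emb_apply, ← polarBilin_apply', map_sum, LinearMap.sum_apply, Finset.sum_eq_single i]
  · rw [map_smul, LinearMap.smul_apply, polarBilin_apply', polar_b, if_pos rfl, smul_eq_mul]; ring
  · intro j _ hj
    rw [map_smul, LinearMap.smul_apply, polarBilin_apply', polar_b, if_neg (fun e => hj (T.ι.injective e)), smul_zero]
  · simp

theorem polar_emb (x y : Fin 3 → F) : polar Q (D.emb T x) (D.emb T y) = 2 * D.a * (x ⬝ᵥ y) := by
  conv_lhs => rw [D.emb_apply T y, ← polarBilin_apply', map_sum]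
  simp only [map_smul, polarBilin_apply', polar_emb_b, smul_eq_mul, dotProduct, Finset.mul_sum]
  exact Finset.sum_congr rfl fun i _ => by ring

theorem Q_emb (x : Fin 3 → F) : Q (D.emb T x) = D.a * (x ⬝ᵥ x) := by
  refine mul_left_cancel₀ D.two ?_
  rw [← polar_self', polar_emb]; ring

theorem emb_injective : Function.Injective (D.emb T) := fun x y h => funext fun i => by
  have := congrArg (fun v => polar Q v (D.b (T.ι i))) h
  simp only [polar_emb_b] at this
  exact mul_left_cancel₀ (mul_ne_zero D.two D.ha) this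

theorem polar_ext {v w : V} (h : ∀ k, polar Q v (D.b k) = polar Q w (D.b k)) : v = w := by
  obtain ⟨f, rfl⟩ := D.vec.surjective v
  obtain ⟨g, rfl⟩ := D.vec.surjective w
  congr 1
  funext k
  have := h k
  rw [polar_vec_b, polar_vec_b] at this
  exact mul_left_cancel₀ (mul_ne_zero D.two D.ha) this

/-- The three coordinates of a vector. -/
noncomputable def crd : V →ₗ[F] (Fin 3 → F) where
  toFun v := fun i => (2 * D.a)⁻¹ * polar Q v (D.b (T.ι i))
  map_add' x y := funext fun i => by simp [polar_add_left, mul_add]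
  map_smul' c x := funext fun i => by simp [polar_smul_left']; ring

theorem crd_emb (y : Fin 3 → F) : D.crd T (D.emb T y) = y := funext fun i => by
  show (2 * D.a)⁻¹ * polar Q (D.emb T y) (D.b (T.ι i)) = y i
  rw [polar_emb_b, inv_mul_cancel_left₀ (mul_ne_zero D.two D.ha)]

theorem emb_crd {v : V} (h : ∀ k, (∀ i, T.ι i ≠ k) → polar Q v (D.b k) = 0) : D.emb T (D.crd T v) = v := by
  refine D.polar_ext fun k => ?_
  by_cases hk : ∀ i, T.ι i ≠ k
  · rw [D.polar_emb_out T _ hk, h k hk]
  · push Not at hk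
    obtain ⟨i, rfl⟩ := hk
    rw [polar_emb_b]
    show 2 * D.a * ((2 * D.a)⁻¹ * _) = _
    rw [mul_inv_cancel_left₀ (mul_ne_zero D.two D.ha)]

/-- The isometry fixes the other frame vectors. -/
def Inner (h : O Q) : Prop := ∀ k, (∀ i, T.ι i ≠ k) → (h : V ≃ₗ[F] V) (D.b k) = D.b k

/-- The isometry fixes all frame vectors but the two extra ones. -/
def Outer (s : O Q) : Prop :=
  D.Mon s ∧ ∀ k, k ≠ T.l₁ → k ≠ T.l₂ → (s : V ≃ₗ[F] V) (D.b k) = D.b k

theorem Inner.emb_mem {h : O Q} (hh : D.Inner T h) (y : Fin 3 → F) :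
    D.emb T (D.crd T ((h : V ≃ₗ[F] V) (D.emb T y))) = (h : V ≃ₗ[F] V) (D.emb T y) :=
  D.emb_crd T fun k hk => by rw [← hh k hk, O.polar_app, D.polar_emb_out T y hk]

theorem Outer.fix_emb {s : O Q} (hs : D.Outer T s) (y : Fin 3 → F) :
    (s : V ≃ₗ[F] V) (D.emb T y) = D.emb T y := by
  rw [emb_apply, map_sum]
  exact Finset.sum_congr rfl fun i _ => by rw [map_smul, hs.2 _ (T.out₁ i) (T.out₂ i)]

theorem Outer.image {s : O Q} (hs : D.Outer T s) {k : Fin n} (hk : k = T.l₁ ∨ k = T.l₂) :
    ∃ j, (j = T.l₁ ∨ j = T.l₂) ∧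
      ((s : V ≃ₗ[F] V) (D.b k) = D.b j ∨ (s : V ≃ₗ[F] V) (D.b k) = -D.b j) := by
  obtain ⟨j, hj⟩ := hs.1 k
  refine ⟨j, by_contra fun hne => ?_, hj⟩
  push Not at hne
  have e := hs.2 j hne.1 hne.2
  have hkj : k ≠ j := by rintro rfl; tauto
  have h0 := D.orth k j hkj
  rw [← O.polar_app s, e] at h0
  rcases hj with hj | hj <;>
    simp [hj, polar_neg_left, polar_self', D.val, D.two, D.ha] at h0

theorem outer_commute {h s : O Q} (hh : D.Inner T h) (hs : D.Outer T s) : h * s = s * h := by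
  refine Subtype.ext (LinearEquiv.toLinearMap_injective (D.b.ext fun k => ?_))
  rw [LinearEquiv.coe_coe, LinearEquiv.coe_coe, Subgroup.coe_mul, Subgroup.coe_mul, mul_app, mul_app]
  by_cases hk : ∀ i, T.ι i ≠ k
  · rw [hh k hk]
    by_cases hl : k = T.l₁ ∨ k = T.l₂
    · obtain ⟨j, hj, hsj⟩ := hs.image D T hl
      have hjo : ∀ i, T.ι i ≠ j := fun i => by rcases hj with rfl | rfl; exacts [T.out₁ i, T.out₂ i]
      rcases hsj with e | e <;> simp [e, hh j hjo, map_neg]
    · push Not at hl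
      rw [hs.2 k hl.1 hl.2, hh k hk]
  · push Not at hk
    obtain ⟨i, rfl⟩ := hk
    rw [hs.2 _ (T.out₁ i) (T.out₂ i), ← D.emb_single T i, ← hh.emb_mem D T, hs.fix_emb D T]

theorem Outer.pow_four {s : O Q} (hs : D.Outer T s) : s ^ 4 = 1 := by
  refine Subtype.ext (LinearEquiv.toLinearMap_injective (D.b.ext fun k => ?_))
  rw [LinearEquiv.coe_coe, LinearEquiv.coe_coe, pow_succ, pow_succ, pow_succ, pow_one]
  simp only [Subgroup.coe_mul, mul_app, OneMemClass.coe_one, one_app]
  by_cases hl : k = T.l₁ ∨ k = T.l₂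
  · obtain ⟨j, hj, hsj⟩ := hs.image D T hl
    obtain ⟨j', hj', hsj'⟩ := hs.image D T hj
    -- the second image is the first vector up to sign
    have hjk : j' = k := by
      by_cases hjk : j = k
      · subst hjk
        rcases hsj with e | e <;> rcases hsj' with e' | e' <;>
        · by_contra hne
          rw [e] at e'
          have h0 := D.orth j' j hne
          first
            | (rw [← e', polar_self', D.val] at h0; exact mul_ne_zero D.two D.ha h0)
            | (rw [neg_eq_iff_eq_neg.1 e'.symm, polar_neg_left, polar_self', D.val, neg_eq_zero] at h0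
               exact mul_ne_zero D.two D.ha h0)
            | (rw [← neg_inj.1 e', polar_self', D.val] at h0; exact mul_ne_zero D.two D.ha h0)
            | (rw [← e', polar_neg_left, polar_self', D.val, neg_eq_zero] at h0; exact mul_ne_zero D.two D.ha h0)
      · have hj'j : j' ≠ j := by
          rintro rfl
          have h0 := D.orth k j' (Ne.symm hjk)
          rw [← O.polar_app s] at h0
          rcases hsj with e | e <;> rcases hsj' with e' | e' <;>
            simp [e, e', polar_neg_left, polar_neg_right, polar_self', D.val, D.two, D.ha] at h0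
        rcases hl with rfl | rfl <;> rcases hj with rfl | rfl <;> rcases hj' with rfl | rfl <;>
          first | rfl | exact absurd rfl hjk | exact absurd rfl hj'j
    subst hjk
    rcases hsj with e | e <;> rcases hsj' with e' | e' <;> simp [e, e', map_neg]
  · push Not at hl
    simp [hs.2 k hl.1 hl.2]

end Frm

end Cfsg.Agent.H85.Frame
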