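import Cfsg.Agent.H85.Frame.Elements

/-!
A rotation of characteristic order gives the full root group of every singular vector of the three-space.
-/

set_option autoImplicit false

namespace Cfsg.Agent.H85.Frame

open QuadraticMap Module Cfsg.Agent.Orthogonal Cfsg.Agent.H98
open Cfsg.Agent.H98.SubfieldOrth (SIn sIn_zero)

variable {F V : Type*} [Field F] [Fintype F] [AddCommGroup V] [Module F V] [FiniteDimensional F V]
  {Q : QuadraticForm F V} {n : ℕ}

namespace Frm

variable {D : Frm Q n} {T : Trio n} {X : Subgroup (O Q)}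

local notation "A" => act (D := D) (T := T)

/-- X contains the root group of u inside the three-space. -/
def Root (D : Frm Q n) (T : Trio n) (X : Subgroup (O Q)) (u : Fin 3 → F) : Prop :=
  u ⬝ᵥ u = 0 ∧ ∀ y, u ⬝ᵥ y = 0 → SIn X (D.emb T u) (D.emb T y)

theorem act_sie {u ξ : Fin 3 → F} (hu : Q (D.emb T u) = 0) (hw : polar Q (D.emb T u) (D.emb T ξ) = 0)
    (y : Fin 3 → F) :
    A (sie (D.emb T u) (D.emb T ξ) hu hw) y =
      y + (2 * D.a * (ξ ⬝ᵥ y) - D.a * (ξ ⬝ᵥ ξ) * (2 * D.a * (u ⬝ᵥ y))) • u - (2 * D.a * (u ⬝ᵥ y)) • ξ := by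
  rw [act, sie_app, D.polar_emb, D.polar_emb, D.Q_emb, map_sub, map_add, map_smul, map_smul, D.crd_emb, D.crd_emb,
    D.crd_emb]

theorem Over.sie_rot (hX : D.Over X) {u ξ : Fin 3 → F} (hu : Q (D.emb T u) = 0)
    (hw : polar Q (D.emb T u) (D.emb T ξ) = 0) (hs : sie (D.emb T u) (D.emb T ξ) hu hw ∈ X) :
    sie (D.emb T u) (D.emb T ξ) hu hw ∈ hX.rot D T := by
  refine ⟨fun k hk => ?_, hX.det_eq hs, 1, Outer.one D T, by rwa [mul_one]⟩
  rw [sie_app, D.polar_emb_out T u hk, D.polar_emb_out T ξ hk]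
  simp

theorem Over.isotropic_span (hX : D.Over X) {u v : Fin 3 → F} (hu : u ⬝ᵥ u = 0) (hu0 : u ≠ 0) (hv : v ⬝ᵥ v = 0)
    (huv : u ⬝ᵥ v = 0) : ∃ c : F, v = c • u := by
  have := hX.five
  obtain ⟨i, hi⟩ := Function.ne_iff.1 hu0
  simp only [Pi.zero_apply] at hi
  set t : Fin 3 → F := Pi.single i 1 with ht
  have hut : u ⬝ᵥ t = u i := by simp [ht]
  set w := cross u t with hw
  have e := cross_expand u t v
  simp only [hu, dotProduct_comm v u, huv, hut, ← hw, zero_mul, zero_sub, mul_zero, sub_zero, neg_zero,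
    zero_smul, add_zero] at e
  have hww : w ⬝ᵥ w = -(u i * u i) := by rw [hw, cross_self, hu, hut]; ring
  have hui : -(u i * u i) ≠ 0 := neg_ne_zero.2 (mul_ne_zero hi hi)
  have hev := congrArg (fun z => v ⬝ᵥ z) e
  simp only [dotProduct_smul, hv, smul_zero, dotProduct_add, dotProduct_comm v u, huv, zero_add, smul_eq_mul] at hev
  have hvw : v ⬝ᵥ w = 0 := mul_self_eq_zero.1 (by linear_combination -hev)
  rw [hvw, zero_smul, add_zero] at e
  refine ⟨(-(u i * u i))⁻¹ * -(u i * (v ⬝ᵥ t)), ?_⟩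
  rw [mul_smul, ← e, inv_smul_smul₀ hui]

theorem Root.smul {u : Fin 3 → F} (h : Root D T X u) {c : F} (hc : c ≠ 0) : Root D T X (c • u) := by
  refine ⟨by rw [smul_dotProduct, dotProduct_smul, h.1, smul_zero, smul_zero], fun y hy => ?_⟩
  rw [smul_dotProduct, smul_eq_mul, mul_eq_zero] at hy
  have := (h.2 (c • y) (by rw [dotProduct_smul, hy.resolve_left hc, smul_zero])).of_smul hc
  exact this.congr (map_smul _ _ _).symm (by rw [map_smul, inv_smul_smul₀ hc])

theorem Root.act (hX : D.Over X) {u : Fin 3 → F} (h : Root D T X u) {g : O Q} (hg : g ∈ hX.rot D T) :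
    Root D T X (A g u) := by
  refine ⟨by rw [hX.act_dot hg, h.1], fun y hy => ?_⟩
  obtain ⟨s, hs, hgs⟩ := hg.2.2
  have hgi := (hX.rot D T).inv_mem hg
  have hyy : A g (A g⁻¹ y) = y := by rw [← hX.act_mul hgi, mul_inv_cancel, act_one]
  have := (h.2 (A g⁻¹ y) (by rw [← hX.act_dot hg, hyy, hy])).conj hgs
  refine this.congr ?_ ?_
  · rw [hX.emb_act hg, Subgroup.coe_mul, mul_app, hs.fix_emb]
  · conv_rhs => rw [← hyy, hX.emb_act hg]
    rw [Subgroup.coe_mul, mul_app, hs.fix_emb]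

/-- A rotation of characteristic order is a root element. -/
theorem Over.exists_root (hX : D.Over X) {h : O Q} (hh : h ∈ hX.rot D T) (h1 : h ≠ 1)
    (hp : h ^ Fintype.card F = 1) : ∃ u, u ≠ 0 ∧ Root D T X u := by
  classical
  obtain ⟨s, hs, hhs⟩ := hh.2.2
  set g := h ^ 4 with hg
  have hgX : g ∈ X := by
    have := X.pow_mem hhs 4
    rwa [(show Commute h s from D.outer_commute T hh.1 hs).mul_pow, hs.pow_four, mul_one] at this
  have hp3 : Odd (Fintype.card F) := by
    refine (hX.prime.eq_two_or_odd').resolve_left fun e => D.two ?_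
    have : CharP F 2 := charP_of_card_eq_prime (hp := ⟨Nat.prime_two⟩) e
    exact CharTwo.two_eq_zero
  have hg1 : g ≠ 1 := by
    intro e
    apply h1
    have h2 : Nat.gcd 4 (Fintype.card F) = 1 := by
      rw [show (4 : ℕ) = 2 ^ 2 by norm_num]
      exact Nat.Coprime.pow_left 2 (Nat.coprime_two_left.2 hp3)
    have := pow_gcd_eq_one.2 ⟨e, hp⟩
    rwa [h2, pow_one] at this
  have hgr : g ∈ hX.rot D T := Subgroup.pow_mem _ hh 4
  have hgp : g ^ Fintype.card F = 1 := by rw [hg, ← pow_mul, mul_comm, pow_mul, hp, one_pow]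
  -- the fixed singular vector
  let Φ : Module.End F (Fin 3 → F) :=
    { toFun := A g
      map_add' := act_add g
      map_smul' := act_smul g }
  have hΦ : ∀ y, Φ y = A g y := fun _ => rfl
  have hΦp : ∀ m y, (Φ ^ m) y = A (g ^ m) y := by
    intro m
    induction m with
    | zero => intro y; rw [pow_zero, pow_zero, act_one]; rfl
    | succ m ih => intro y; rw [pow_succ, Module.End.mul_apply, ih, hΦ, pow_succ, hX.act_mul hgr]
  have : Fact (Fintype.card F).Prime := ⟨hX.prime⟩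
  have : CharP F (Fintype.card F) := charP_of_card_eq_prime (p := Fintype.card F) rfl
  have : CharP (Module.End F (Fin 3 → F)) (Fintype.card F) :=
    charP_of_injective_algebraMap (FaithfulSMul.algebraMap_injective F _) _
  set N := Φ - 1 with hN
  have hNp : N ^ Fintype.card F = 0 := by
    rw [hN, sub_pow_char_of_commute _ (Commute.one_right Φ), one_pow, sub_eq_zero]
    exact LinearMap.ext fun y => by rw [hΦp, hgp, act_one]; rfl
  obtain ⟨x, hx⟩ : ∃ x, N x ≠ 0 := by
    by_contra hc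
    push Not at hc
    refine hg1 (hX.rot_eq_one hgr (x := Pi.single 0 1) (y := Pi.single 1 1) ?_ ?_ (by simp))
    all_goals exact sub_eq_zero.1 (hc _)
  have hex : ∃ j, (N ^ j) x = 0 := ⟨Fintype.card F, by rw [hNp]; rfl⟩
  obtain ⟨j, hj⟩ : ∃ j, Nat.find hex = j + 2 := by
    refine ⟨Nat.find hex - 2, ?_⟩
    have h0 : Nat.find hex ≠ 0 := fun e => by
      have := Nat.find_spec hex
      rw [e, pow_zero, Module.End.one_apply] at this
      exact hx (by rw [this, map_zero])
    have h1 : Nat.find hex ≠ 1 := fun e => by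
      have := Nat.find_spec hex
      rw [e, pow_one] at this
      exact hx this
    omega
  set z := (N ^ j) x with hz
  set u := N z with hu
  have hu0 : u ≠ 0 := fun e => Nat.find_min hex (show j + 1 < Nat.find hex by omega)
    (by rw [pow_succ', Module.End.mul_apply]; exact e)
  have hfix : A g u = u := by
    have e := Nat.find_spec hex
    rw [hj, pow_succ', Module.End.mul_apply, pow_succ', Module.End.mul_apply, ← hz, ← hu] at e
    exact sub_eq_zero.1 e
  have huu : u ⬝ᵥ u = 0 := by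
    have e : u = A g z - z := rfl
    nth_rewrite 2 [e]
    rw [dotProduct_sub]
    nth_rewrite 1 [← hfix]
    rw [hX.act_dot hgr, sub_self]
  -- the element is a root element with centre u
  obtain ⟨i, hi⟩ := Function.ne_iff.1 hu0
  simp only [Pi.zero_apply] at hi
  set u' : Fin 3 → F := Pi.single i 1 - (1 / (2 * u i)) • u with hu'
  have huu' : u ⬝ᵥ u' = u i := by
    rw [hu', dotProduct_sub, dotProduct_smul, huu, dotProduct_single, mul_one, smul_zero, sub_zero]
  have hu'u' : u' ⬝ᵥ u' = 0 := by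
    simp only [hu', dotProduct_sub, sub_dotProduct, dotProduct_smul, smul_dotProduct, huu, dotProduct_single,
      single_dotProduct, Pi.single_eq_same, smul_eq_mul, Pi.sub_apply, Pi.smul_apply]
    field_simp [D.two]
    ring
  set v := A g u' with hv
  have huv : u ⬝ᵥ v = u i := by rw [hv, ← huu']; nth_rewrite 1 [← hfix]; rw [hX.act_dot hgr]
  set ξ : Fin 3 → F := (-(1 / (2 * D.a * u i))) • (v - u') with hξ
  have huξ : u ⬝ᵥ ξ = 0 := by rw [hξ, dotProduct_smul, dotProduct_sub, huv, huu', sub_self, smul_zero]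
  have hQu : Q (D.emb T u) = 0 := by rw [D.Q_emb, huu, mul_zero]
  have hpu : polar Q (D.emb T u) (D.emb T ξ) = 0 := by rw [D.polar_emb, huξ, mul_zero]
  set σ := sie (D.emb T u) (D.emb T ξ) hQu hpu with hσ
  let hC : D.Over (commutator (O Q)) := ⟨hX.hQ, hX.five, hX.odd, hX.prime, fun _ hs _ => hs, le_rfl⟩
  have hσC : σ ∈ commutator (O Q) := by
    rw [← sieGroup_eq_commutator hX.hQ (by rw [Module.finrank_eq_card_basis D.b, Fintype.card_fin]; exact hX.five)]
    exact sie_mem hQu hpu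
  have hgC : g ∈ hC.rot D T :=
    ⟨hgr.1, hgr.2.1, 1, Outer.one D T, by rw [mul_one]; exact hX.le hgX⟩
  have hσr : σ ∈ hC.rot D T := hC.sie_rot hQu hpu hσC
  have hσu : A σ u = u := by
    rw [act_sie, dotProduct_comm ξ u, huξ, huu]; simp
  have hσu' : A σ u' = v := by
    have e := act_sie hQu hpu u'
    rw [← hσ, huu', hξ, smul_smul, show (2 * D.a * u i) * -(1 / (2 * D.a * u i)) = (-1 : F) by
      field_simp [D.two, D.ha, hi], neg_one_smul, sub_neg_eq_add, ← hξ] at e
    set κ := 2 * D.a * (ξ ⬝ᵥ u') - D.a * (ξ ⬝ᵥ ξ) * (2 * D.a * u i)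
    have e2 := hC.act_dot hσr u' u'
    rw [e, show u' + κ • u + (v - u') = v + κ • u by abel] at e2
    simp only [add_dotProduct, dotProduct_add, smul_dotProduct, dotProduct_smul, smul_eq_mul, huu,
      dotProduct_comm v u, huv, hu'u', show v ⬝ᵥ v = 0 by rw [hv, hX.act_dot hgr, hu'u']] at e2
    have : κ = 0 := (mul_eq_zero.1 (show κ * (2 * u i) = 0 by linear_combination e2)).resolve_right
      (mul_ne_zero D.two hi)
    rw [e, this, zero_smul, add_zero, add_sub_cancel]
  have hgσ : g = σ := by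
    have hσi := (hC.rot D T).inv_mem hσr
    refine (inv_mul_eq_one.1 (hC.rot_eq_one ((hC.rot D T).mul_mem hσi hgC) (x := u) (y := u') ?_ ?_ ?_)).symm
    · rw [hC.act_mul hgC, hfix]
      conv_lhs => rw [← hσu, ← hC.act_mul hσr, inv_mul_cancel, act_one]
    · rw [hC.act_mul hgC, ← hv, ← hσu', ← hC.act_mul hσr, inv_mul_cancel, act_one]
    · rw [huu, huu', zero_mul, zero_sub]; exact neg_ne_zero.2 (mul_ne_zero hi hi)
  have hs0 : SIn X (D.emb T u) (D.emb T ξ) := ⟨hQu, hpu, by rw [← hσ, ← hgσ]; exact hgX⟩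
  refine ⟨u, hu0, huu, fun y hy => ?_⟩
  set w := cross u u' with hw
  have hexp : ∀ y, u ⬝ᵥ y = 0 → ∃ α β : F, y = α • u + β • w := by
    intro y hy
    have e := cross_expand u u' y
    simp only [huu, huu', hu'u', dotProduct_comm y u, hy, ← hw, zero_mul, zero_sub, mul_zero, sub_zero, neg_zero,
      zero_smul, add_zero] at e
    have hui : -(u i * u i) ≠ 0 := neg_ne_zero.2 (mul_ne_zero hi hi)
    refine ⟨(-(u i * u i))⁻¹ * (-(u i * (y ⬝ᵥ u'))), (-(u i * u i))⁻¹ * (y ⬝ᵥ w), ?_⟩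
    rw [mul_smul, mul_smul, ← smul_add, ← e, inv_smul_smul₀ hui]
  obtain ⟨α, β, hαβ⟩ := hexp ξ huξ
  have hβ : β ≠ 0 := by
    intro hβ
    apply hg1
    rw [hgσ]
    refine O.ext_app fun x => ?_
    rw [hσ, sie_app, hαβ, hβ, zero_smul, add_zero, map_smul, polar_smul_left', qmap_smul, hQu]
    simp [mul_comm, smul_smul]
  obtain ⟨γ, δ, hγδ⟩ := hexp y hy
  have := (hX.sIn_smul hs0 (δ / β)).add_smul (γ - δ / β * α)
  refine this.congr rfl ?_
  rw [hγδ, hαβ, map_add, map_add, map_smul, map_smul, map_smul, map_smul, smul_add, smul_smul, smul_smul,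
    div_mul_cancel₀ _ hβ]
  module

/-- Every singular vector of the three-space has the root property. -/
theorem Over.root_all (hX : D.Over X) {u : Fin 3 → F} (hu0 : u ≠ 0) (hu : Root D T X u) {v : Fin 3 → F}
    (hv0 : v ≠ 0) (hv : v ⬝ᵥ v = 0) : Root D T X v := by
  by_cases huv : u ⬝ᵥ v = 0
  · obtain ⟨c, rfl⟩ := hX.isotropic_span hu.1 hu0 hv huv
    exact hu.smul fun e => hv0 (by rw [e, zero_smul])
  obtain ⟨k, hk⟩ := Function.ne_iff.1 hu0
  simp only [Pi.zero_apply] at hk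
  obtain ⟨f, hf, hfy⟩ := hX.exists_flip (T := T) k
  set u1 := A f u with hu1
  have hu1' : u1 ⬝ᵥ u1 = 0 := by rw [hu1, hX.act_dot hf, hu.1]
  have huu1 : u ⬝ᵥ u1 ≠ 0 := by
    intro e
    have h2 : u ⬝ᵥ u + u ⬝ᵥ u1 = 2 * (u k * u k) := by
      rw [hu1, dot_three, dot_three, hfy, hfy, hfy]
      fin_cases k <;> simp <;> ring
    rw [hu.1, e, add_zero] at h2
    exact mul_ne_zero D.two (mul_ne_zero hk hk) h2.symm
  set c := (u ⬝ᵥ u1) / (u ⬝ᵥ v) with hc
  have hc0 : c ≠ 0 := div_ne_zero huu1 huv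
  set y : Fin 3 → F := (-(1 / (2 * D.a * (u ⬝ᵥ u1)))) • (c • v - u1) with hy
  have huy : u ⬝ᵥ y = 0 := by
    rw [hy, dotProduct_smul, dotProduct_sub, dotProduct_smul, smul_eq_mul, smul_eq_mul, hc,
      div_mul_cancel₀ _ huv, sub_self, mul_zero]
  obtain ⟨hQu, hpu, hm⟩ := hu.2 y huy
  have hσr := hX.sie_rot hQu hpu hm
  have hR := (hu.act hX hf).act hX hσr
  have e := act_sie hQu hpu u1
  rw [← hu1] at hR
  have h2 : (2 * D.a * (u ⬝ᵥ u1)) * -(1 / (2 * D.a * (u ⬝ᵥ u1))) = (-1 : F) := by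
    field_simp [D.two, D.ha, huu1]
  have hy' : (2 * D.a * (u ⬝ᵥ u1)) • y = -(c • v - u1) := by rw [hy, smul_smul, h2, neg_one_smul]
  rw [hy', sub_neg_eq_add] at e
  set κ := 2 * D.a * (y ⬝ᵥ u1) - D.a * (y ⬝ᵥ y) * (2 * D.a * (u ⬝ᵥ u1))
  rw [show u1 + κ • u + (c • v - u1) = c • v + κ • u by abel] at e
  have hκ : κ = 0 := by
    have e2 := hR.1
    rw [e] at e2
    simp only [add_dotProduct, dotProduct_add, smul_dotProduct, dotProduct_smul, smul_eq_mul, hu.1, hv,
      dotProduct_comm v u] at e2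
    exact (mul_eq_zero.1 (show κ * (2 * (c * (u ⬝ᵥ v))) = 0 by linear_combination e2)).resolve_right
      (mul_ne_zero D.two (mul_ne_zero hc0 huv))
  rw [e, hκ, zero_smul, add_zero] at hR
  have := hR.smul (inv_ne_zero hc0)
  rwa [inv_smul_smul₀ hc0] at this

end Frm

end Cfsg.Agent.H85.Frame
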